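import Groth.Agent.Sga3.H797.OrbFam
import Groth.Agent.S0412

/-!
# Étale local existence of maximal tori from a family of rigidified maximal tori
-/

set_option autoImplicit false
universe u
open CategoryTheory MonoidalCategory CartesianMonoidalCategory MonObj GrpObj AlgebraicGeometry Limits

namespace Groth.Agent.Sga3.H797.EtLoc

open Groth.Agent.Sga3B Groth.Agent.Sga3B.BcPts Groth.Agent.Sga3B.MT Groth.Agent.Sga3B.RedIso
  Groth.Agent.Sga3.H828 TorsNhd Rigid Good HomFin Sat OrbFam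

variable {S : Scheme.{u}} {G : Over S} [GrpObj G] {n : ℕ} (F : Fam G n) {Γ₀ : Type} [Group Γ₀] {H : Over S}
  {υ : Γ₀ →* (H ⟶ G)} (hH : IsHomScheme G Γ₀ H υ)

set_option backward.isDefEq.respectTransparency.types false in
lemma flat_of_comp {X Y Z : Scheme.{u}} (q : X ⟶ Y) (ε : Y ⟶ Z) (h : IsOpenImmersion ε) (h2 : Flat (q ≫ ε)) :
    Flat q :=
  MorphismProperty.of_postcomp (W := @Flat) q ε h h2

section torus

variable {E : Scheme.{u}} (ε : E ⟶ H.left) [IsOpenImmersion ε]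

/-- The torus on one piece. -/
theorem exists_piece [LocallyOfFiniteType G.hom] (k : F.κ) (a : Γ₀ ≃* F.Γ k) (w : (G ⊗ F.Q k).left ⟶ S)
    (hw : w = (G ⊗ F.Q k).hom) :
    ∃ (T : Over (G ⊗ F.Q k).left) (_ : GrpObj T) (t : T ⟶ Red.bc w G),
      Good n (fun γ => (Over.homMk (𝟙 _) (by rw [hw]; exact Category.id_comp _) : Over.mk w ⟶ G ⊗ F.Q k) ≫
        orbH F hH k a ≫ υ γ) t := by
  let i : Over.mk w ⟶ G ⊗ F.Q k := Over.homMk (𝟙 _) (by rw [hw]; exact Category.id_comp _)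
  have e0 : (snd G (F.Q k)).left ≫ F.f k = w := by
    rw [hw]
    exact Over.w (snd G (F.Q k))
  obtain ⟨T, i1, t, h1, -⟩ := ((F.good k).reindex a a.surjective).exists_bc w (snd G (F.Q k)).left e0
  have e : (Over.homMk (snd G (F.Q k)).left e0 : Over.mk w ⟶ Over.mk (F.f k)) = i ≫ snd G (F.Q k) := by
    ext1
    exact (Category.id_comp _).symm
  have h2 := h1.conj (i ≫ fst G (F.Q k))
  refine ⟨T, i1, t ≫ cj (i ≫ fst G (F.Q k)), ?_⟩
  convert h2 using 2 with γ
  have h3 := congrArg (i ≫ ·) (orb_fst F hH k a γ)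
  simp only [MonObj.comp_mul, GrpObj.comp_inv] at h3
  change i ≫ orbH F hH k a ≫ υ γ = _
  rw [e, orbH, Category.assoc, Category.assoc, h3]

/-- the indexing set -/
abbrev Idx (F : Fam G n) (Γ₀ : Type) [Group Γ₀] : Type u := Σ k : F.κ, (Γ₀ ≃* F.Γ k)

/-- the pieces -/
noncomputable abbrev pc (F : Fam G n) (Γ₀ : Type) [Group Γ₀] (j : Idx F Γ₀) : Scheme.{u} := (G ⊗ F.Q j.1).left

instance (Γ₀ : Type) [Group Γ₀] : Finite (Idx F Γ₀) := by
  have : ∀ k, Finite (Γ₀ ≃* F.Γ k) := fun k => by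
    by_cases h : Nonempty (Γ₀ ≃* F.Γ k)
    · obtain ⟨e⟩ := h
      have : Finite Γ₀ := Finite.of_equiv _ e.symm.toEquiv
      exact Finite.of_injective (fun e : Γ₀ ≃* F.Γ k => (e : Γ₀ → F.Γ k)) DFunLike.coe_injective
    · have := not_nonempty_iff.mp h
      infer_instance
  infer_instance

variable [Smooth G.hom] [LocallyOfFinitePresentation H.hom]

include hH in
/-- the maps to the orbit locus -/
theorem exists_maps (hε : Set.range ε = locus F hH) : ∃ q : ∀ j : Idx F Γ₀, pc F Γ₀ j ⟶ E,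
    (∀ j, q j ≫ ε = (orbH F hH j.1 j.2).left) ∧ (∀ j, Flat (q j)) ∧ ∀ x, ∃ j, x ∈ Set.range (q j) := by
  have h1 : ∀ j : Idx F Γ₀, ∃ q : pc F Γ₀ j ⟶ E, q ≫ ε = (orbH F hH j.1 j.2).left := fun j => by
    refine DescFam.exists_lift_open ε _ fun z => ?_
    have : (orbH F hH j.1 j.2).left z ∈ Set.range ε := by
      rw [hε]
      exact ⟨j.1, j.2, z, rfl⟩
    exact this
  choose q hq using h1
  refine ⟨q, hq, fun j => ?_, fun x => ?_⟩
  · have h2 : Flat (q j ≫ ε) := by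
      rw [hq]
      have h3 := smooth_orb F hH j.1 j.2
      have h4 : Flat (fst H (F.Q j.1)).left := inferInstanceAs (Flat (pullback.fst H.hom (F.f j.1)))
      exact inferInstanceAs (Flat ((orb F hH j.1 j.2).left ≫ (fst H (F.Q j.1)).left))
    have hεo : IsOpenImmersion ε := inferInstance
    exact flat_of_comp (q j) ε hεo h2
  · have h2 : ε x ∈ locus F hH := by
      rw [← hε]
      exact ⟨x, rfl⟩
    obtain ⟨k, a, w, hw⟩ := h2
    refine ⟨⟨k, a⟩, w, ?_⟩
    apply ε.isOpenEmbedding.injective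
    rw [← Scheme.Hom.comp_apply, hq, hw]

variable [IsSeparated G.hom] [QuasiCompact G.hom] [QuasiSeparatedSpace S] [IsSeparated H.hom]

include hH in
/-- **A maximal torus over the orbit locus.** -/
theorem exists_maximalTorus_locus (hε : Set.range ε = locus F hH) :
    ∃ (P : Over E) (_ : GrpObj P) (p : P ⟶ Red.bc (ε ≫ H.hom) G), Red.IsMaximalTorus p := by
  obtain ⟨q, hq, hfl, hsurj⟩ := exists_maps F hH ε hε
  let Q : (∐ pc F Γ₀) ⟶ E := Sigma.desc q
  have h1 : Flat Q := inferInstanceAs (Flat (Sigma.desc q))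
  have h2 : Surjective Q := by
    refine Surjective.sigmaDesc_of_union_range_eq_univ ?_
    ext y
    simpa using hsurj y
  have h3 : QuasiSeparatedSpace E := by
    have : QuasiSeparated (ε ≫ H.hom) := inferInstance
    exact quasiSeparatedSpace_of_quasiSeparated (ε ≫ H.hom)
  have h4 : ∀ j : Idx F Γ₀, CompactSpace (pc F Γ₀ j) := fun j => by
    have : QuasiCompact (snd G (F.Q j.1)).left := inferInstanceAs (QuasiCompact (pullback.snd G.hom (F.f j.1)))
    have : CompactSpace (F.Q j.1).left := F.compact j.1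
    exact QuasiCompact.compactSpace_of_compactSpace (snd G (F.Q j.1)).left
  have h5' : CompactSpace (∐ pc F Γ₀ : Scheme.{u}) := (sigmaMk (pc F Γ₀)).compactSpace
  have h5 : QuasiCompact Q := inferInstance
  have hw : ∀ j, Sigma.ι (pc F Γ₀) j ≫ Q ≫ ε ≫ H.hom = (G ⊗ F.Q j.1).hom := fun j => by
    rw [← Category.assoc, Sigma.ι_desc, ← Category.assoc, hq]
    exact Over.w (orbH F hH j.1 j.2)
  choose T i1 t ht using fun j : Idx F Γ₀ => exists_piece F hH j.1 j.2 _ (hw j)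
  let ε' : Over.mk (ε ≫ H.hom) ⟶ H := Over.homMk ε rfl
  refine DescFam.exists_maximalTorus Q (ε ≫ H.hom) (n := n) (fun γ : Γ₀ => ε' ≫ υ γ) t fun j => ?_
  convert ht j using 2 with γ
  refine (Category.assoc _ _ _).symm.trans (Eq.trans (congrArg (· ≫ υ γ) ?_) (Category.assoc _ _ _))
  ext1
  change (Sigma.ι (pc F Γ₀) j ≫ Q) ≫ ε = 𝟙 _ ≫ (orbH F hH j.1 j.2).left
  rw [Sigma.ι_desc, hq, Category.id_comp]

end torus

include F in
/-- **Étale local existence.** -/
theorem exists_etale [Smooth G.hom] [IsSeparated G.hom] [QuasiCompact G.hom] [QuasiSeparatedSpace S] (s : S) :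
    ∃ (S' : Scheme.{u}) (f : S' ⟶ S), Etale f ∧ s ∈ Set.range f ∧
      ∃ (T : Over S') (_ : GrpObj T) (i : T ⟶ Red.bc f G), Red.IsMaximalTorus i := by
  obtain ⟨k₀, p₀, hp₀⟩ := F.surj s
  obtain ⟨H, υ, hH, hsep, hfp, -⟩ := exists_rep G (F.Γ k₀)
  have h1 : LocallyOfFinitePresentation H.hom := hfp inferInstance
  have h2 : Smooth H.hom := smooth_rep hH (F.inv k₀)
  let U : H.left.Opens := ⟨locus F hH, isOpen_locus F hH⟩
  have hU : Set.range U.ι = locus F hH := U.range_ι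
  obtain ⟨P, i1, p, hp⟩ := exists_maximalTorus_locus F hH U.ι hU
  have h3 : s ∈ Set.range (U.ι ≫ H.hom) := by
    let e : F.Q k₀ ⟶ G ⊗ F.Q k₀ := lift 1 (𝟙 _)
    have hh : (orbH F hH k₀ (MulEquiv.refl _)).left (e.left p₀) ∈ Set.range U.ι := by
      rw [hU]
      exact ⟨k₀, MulEquiv.refl _, _, rfl⟩
    obtain ⟨z, hz⟩ := hh
    refine ⟨z, ?_⟩
    rw [Scheme.Hom.comp_apply, hz, ← Scheme.Hom.comp_apply, ← Scheme.Hom.comp_apply, ← hp₀]
    have h4 : e.left ≫ (orbH F hH k₀ (MulEquiv.refl _)).left ≫ H.hom = F.f k₀ := by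
      rw [Over.w (orbH F hH k₀ (MulEquiv.refl _))]
      exact Over.w e
    rw [← h4]
  obtain ⟨S', g, s', hg, hs', h, hh⟩ := Groth.Agent.S0412.result (U.ι ≫ H.hom) s h3
  subst hh
  refine ⟨S', _, hg, ⟨s', hs'⟩, Red.bc h P, inferInstance, bcSub h p, ?_⟩
  exact Good.isMaximalTorus_bcSub h hp

end Groth.Agent.Sga3.H797.EtLoc
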