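import Groth.Agent.Sga3.H797.MkFam
import Groth.Agent.Sga3.H797.EtLoc

/-!
# Reduction to a finite affine family of split maximal tori
-/

set_option autoImplicit false
universe u
open CategoryTheory MonoidalCategory CartesianMonoidalCategory MonObj GrpObj AlgebraicGeometry Limits

namespace Groth.Agent.Sga3.H797.RedLoc

open Groth.Agent.Sga3B Groth.Agent.Sga3B.BcPts Groth.Agent.Sga3B.MT Groth.Agent.Sga3B.RedIso
  Groth.Agent.Sga3.H828 TorsNhd Rigid Good HomFin OrbFam Frame MkFam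

variable {S : Scheme.{u}}

/-- A natural number nonzero at a field-valued point is invertible near its image. -/
theorem mem_basicOpen_of_ne_zero {Ω : Type u} [Field Ω] (s : Spec (CommRingCat.of Ω) ⟶ S)
    (n : ℕ) (hn : (n : Ω) ≠ 0) (d : Spec (CommRingCat.of Ω)) : s d ∈ S.basicOpen (n : Γ(S, ⊤)) := by
  change d ∈ s ⁻¹ᵁ S.basicOpen (n : Γ(S, ⊤))
  rw [Scheme.preimage_basicOpen_top, map_natCast]
  have h1 : IsUnit (n : Γ(Spec (CommRingCat.of Ω), ⊤)) := by
    have h2 : IsUnit (n : Ω) := hn.isUnit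
    have h3 := h2.map (Scheme.ΓSpecIso (CommRingCat.of Ω)).inv.hom
    rwa [map_natCast] at h3
  rw [Scheme.basicOpen_of_isUnit _ h1]
  trivial

/-- Every point is in the locus where `2` or `3` is invertible. -/
theorem exists_inv (s : S) : ∃ l : ℕ, 2 ≤ l ∧ s ∈ S.basicOpen ((l : ℕ) : Γ(S, ⊤)) := by
  have hs : ∃ d, S.fromSpecResidueField s d = s := by
    have : s ∈ Set.range (S.fromSpecResidueField s) := by
      rw [Scheme.range_fromSpecResidueField]
      rfl
    exact this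
  obtain ⟨d, hd⟩ := hs
  by_cases h2 : ((2 : ℕ) : S.residueField s) = 0
  · refine ⟨3, by norm_num, ?_⟩
    have h3 : ((3 : ℕ) : S.residueField s) ≠ 0 := by
      intro h3
      have h4 : (1 : S.residueField s) = ((3 : ℕ) : S.residueField s) - ((2 : ℕ) : S.residueField s) := by
        norm_num
      rw [h2, h3, sub_zero] at h4
      exact one_ne_zero h4
    have := mem_basicOpen_of_ne_zero (Ω := S.residueField s) (S.fromSpecResidueField s) 3 h3 d
    rwa [hd] at this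
  · refine ⟨2, le_refl _, ?_⟩
    have := mem_basicOpen_of_ne_zero (Ω := S.residueField s) (S.fromSpecResidueField s) 2 h2 d
    rwa [hd] at this

theorem inv_of_le (V : S.Opens) (N : ℕ) (hV : V ≤ S.basicOpen ((N : ℕ) : Γ(S, ⊤))) :
    HomFin.Inv N V.toScheme := by
  have h1 : IsUnit ((S.presheaf.map (homOfLE (S.basicOpen_le ((N : ℕ) : Γ(S, ⊤)))).op).hom
      ((N : ℕ) : Γ(S, ⊤))) := RingedSpace.isUnit_res_basicOpen S.toRingedSpace _
  have h2 := h1.map (S.presheaf.map (homOfLE hV).op).hom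
  have h3 := h2.map (V.topIso.inv).hom
  unfold HomFin.Inv
  simpa using h3

/-- Transfer of maximal tori in a commutative square of bases. -/
theorem exists_transfer {Q S' V : Scheme.{u}} (ρ : Q ⟶ S') (f : S' ⟶ S) (w : Q ⟶ V) (v : V ⟶ S)
    (e : ρ ≫ f = w ≫ v) {G : Over S} [GrpObj G] [LocallyOfFiniteType G.hom] {T : Over S'} [GrpObj T]
    (i : T ⟶ Red.bc f G) (hi : Red.IsMaximalTorus i) :
    ∃ t : Red.bc ρ T ⟶ Red.bc w (Red.bc v G), Red.IsMaximalTorus t := by
  have h1 : ∃ t₁ : Red.bc ρ T ⟶ Red.bc (w ≫ v) G, Red.IsMaximalTorus t₁ := by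
    rw [← e]
    exact ⟨bcSub ρ i, Good.isMaximalTorus_bcSub ρ hi⟩
  obtain ⟨t₁, ht₁⟩ := h1
  refine ⟨DescFam.undo w v t₁, ?_⟩
  refine AlgBc.isMaximalTorus_of_arrow (Iso.refl _) (BcIso.bcCompIso w v G) ?_ ht₁
  rw [BcNat.und_bcCompIso]
  exact (Category.id_comp _).symm

lemma isSplitTorusWith_comp {M : Type} [AddCommGroup M] {Q S' S'' : Scheme.{u}} (j : Q ⟶ S'') (h : S'' ⟶ S')
    {T : Over S'} [GrpObj T] (hT : Red.IsSplitTorusWith M (Red.bc h T)) :
    Red.IsSplitTorusWith M (Red.bc (j ≫ h) T) := by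
  obtain ⟨e⟩ := TorusAlgClosed.isSplitTorusWith_bc j hT
  exact ⟨BcIso.bcCompIso j h T ≪≫ e⟩

lemma isMaximalTorus_und_inv {Y : Scheme.{u}} {G T D : Over Y} [GrpObj G] [GrpObj T] [GrpObj D]
    (e : Grp.mk T ≅ Grp.mk D) (t : T ⟶ G) (ht : Red.IsMaximalTorus t) :
    Red.IsMaximalTorus ((und e).inv ≫ t) := by
  refine AlgBc.isMaximalTorus_of_arrow e (Iso.refl _) ?_ ht
  rw [Iso.hom_inv_id_assoc]
  exact (Category.comp_id _).symm

/-- A compact open subset of `S'` is the image of a compact open subset of `S''`. -/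
theorem exists_compact_lift {S' S'' : Scheme.{u}} (g : S'' ⟶ S')
    (hg : ∀ V : S'.Opens, IsAffineOpen V → ∃ W : S''.Opens, IsCompact (W : Set S'') ∧
      g.base '' (W : Set S'') = (V : Set S')) (W : S'.Opens) (hW : IsCompact (W : Set S')) :
    ∃ W' : S''.Opens, IsCompact (W' : Set S'') ∧ g.base '' (W' : Set S'') = (W : Set S') := by
  have h1 : ∀ x : W, ∃ O : S'.Opens, IsAffineOpen O ∧ x.1 ∈ O ∧ O ≤ W := fun x => by
    obtain ⟨O, hO, hx, hOW⟩ := exists_isAffineOpen_mem_and_subset x.2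
    exact ⟨O, hO, hx, hOW⟩
  choose O hO hx hOW using h1
  obtain ⟨F, hF⟩ := hW.elim_finite_subcover (fun x : W => (O x : Set S')) (fun x => (O x).isOpen)
    (fun x hxW => Set.mem_iUnion.mpr ⟨⟨x, hxW⟩, hx _⟩)
  choose W' hW'c hW' using fun x : W => hg (O x) (hO x)
  refine ⟨⟨⋃ x ∈ F, (W' x : Set S''), isOpen_biUnion fun x _ => (W' x).isOpen⟩, ?_, ?_⟩
  · exact F.isCompact_biUnion fun x _ => hW'c x
  · change g.base '' (⋃ x ∈ F, (W' x : Set S'')) = _
    rw [Set.image_iUnion₂]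
    simp_rw [hW']
    apply subset_antisymm
    · exact Set.iUnion₂_subset fun x _ => hOW x
    · exact hF

section main

variable (G : Over S) [GrpObj G] [LocallyOfFiniteType G.hom]

/-- **A finite affine family of split maximal tori.** -/
theorem exists_affine_family (h : SGA3x.HasMaxTorusFpqcLocally G) (V : S.Opens) (hV : IsAffineOpen V) :
    ∃ (κ : Type u) (_ : Finite κ) (A : κ → Type u) (_ : ∀ k, CommRing (A k))
      (f : ∀ k, Spec (CommRingCat.of (A k)) ⟶ V.toScheme), (∀ k, Flat (f k)) ∧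
      (∀ s, ∃ k, s ∈ Set.range (f k)) ∧
      ∃ (r : κ → ℕ) (t : ∀ k, Red.DS _ (Fin (r k) → ℤ) ⟶ Red.bc (f k) (Red.bc V.ι G)),
        ∀ k, Red.IsMaximalTorus (t k) := by
  obtain ⟨S', f, hf1, hf2, hf3, T, _, i, hi⟩ := h
  obtain ⟨S'', g, hg1, hg2, hg3, hsp⟩ := hi.2.2.1
  obtain ⟨W, hWc, hW⟩ := hf3 V hV
  obtain ⟨W', hWc', hW'⟩ := exists_compact_lift g hg3 W hWc
  choose U hU r hr using hsp
  have h1 : ∀ x : W', ∃ O : S''.Opens, IsAffineOpen O ∧ x.1 ∈ O ∧ O ≤ W' ⊓ U x.1 := fun x => by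
    obtain ⟨O, hO, hx, hOW⟩ := exists_isAffineOpen_mem_and_subset (U := W' ⊓ U x.1) ⟨x.2, hU x.1⟩
    exact ⟨O, hO, hx, hOW⟩
  choose O hO hx hOW using h1
  obtain ⟨F, hF⟩ := hWc'.elim_finite_subcover (fun x : W' => (O x : Set S'')) (fun x => (O x).isOpen)
    (fun x hxW => Set.mem_iUnion.mpr ⟨⟨x, hxW⟩, hx _⟩)
  -- the morphisms to `V`
  have hmaps : ∀ x : W', ∃ q : Spec (CommRingCat.of Γ(S'', O x)) ⟶ V.toScheme,
      q ≫ V.ι = (hO x).fromSpec ≫ g ≫ f := fun x => by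
    refine DescFam.exists_lift_open V.ι _ fun z => ?_
    have h3 : (hO x).fromSpec z ∈ O x := by
      have : (hO x).fromSpec z ∈ Set.range (hO x).fromSpec := ⟨z, rfl⟩
      rwa [(hO x).range_fromSpec] at this
    have h4 : g ((hO x).fromSpec z) ∈ (W : Set S') := by
      rw [← hW']
      exact ⟨_, (hOW x h3).1, rfl⟩
    have h5 : f (g ((hO x).fromSpec z)) ∈ (V : Set S) := by
      rw [← hW]
      exact ⟨_, h4, rfl⟩
    rw [Scheme.Hom.comp_apply, Scheme.Hom.comp_apply, Scheme.Opens.opensRange_ι]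
    exact h5
  choose q hq using hmaps
  have hflat : ∀ x, Flat (q x) := fun x => by
    have h2 : Flat (q x ≫ V.ι) := by
      rw [hq]
      infer_instance
    exact EtLoc.flat_of_comp (q x) V.ι inferInstance h2
  refine ⟨F, inferInstance, fun x => Γ(S'', O x.1), fun x => inferInstance, fun x => q x.1, fun x => hflat x.1,
    fun s => ?_, fun x => r x.1.1, ?_⟩
  · have h2 : V.ι s ∈ (V : Set S) := s.2
    rw [← hW] at h2
    obtain ⟨y, hy, hys⟩ := h2
    rw [SetLike.mem_coe, ← SetLike.mem_coe, ← hW'] at hy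
    obtain ⟨z, hz, hzy⟩ := hy
    obtain ⟨x, hxF, hzx⟩ := Set.mem_iUnion₂.mp (hF hz)
    have h3 : z ∈ Set.range (hO x).fromSpec := by
      rw [(hO x).range_fromSpec]
      exact hzx
    obtain ⟨w, hw⟩ := h3
    refine ⟨⟨x, hxF⟩, w, ?_⟩
    apply V.ι.isOpenEmbedding.injective
    change V.ι (q x w) = V.ι s
    rw [← Scheme.Hom.comp_apply, hq, Scheme.Hom.comp_apply, Scheme.Hom.comp_apply, hw, ← hys, ← hzy]
  · have h2 : ∀ x : W', ∃ t : Red.DS _ (Fin (r x.1) → ℤ) ⟶ Red.bc (q x) (Red.bc V.ι G),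
        Red.IsMaximalTorus t := fun x => by
      obtain ⟨j, hj⟩ := DescFam.exists_lift_open (U x.1).ι (hO x).fromSpec (fun z => by
        have h3 : (hO x).fromSpec z ∈ O x := by
          have : (hO x).fromSpec z ∈ Set.range (hO x).fromSpec := ⟨z, rfl⟩
          rwa [(hO x).range_fromSpec] at this
        rw [Scheme.Opens.opensRange_ι]
        exact (hOW x h3).2)
      have h4 : Red.IsSplitTorusWith (Fin (r x.1) → ℤ) (Red.bc ((hO x).fromSpec ≫ g) T) := by
        have h5 := isSplitTorusWith_comp j ((U x.1).ι ≫ g) (hr x.1)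
        rwa [← Category.assoc, hj] at h5
      obtain ⟨e⟩ := h4
      obtain ⟨t, ht⟩ := exists_transfer ((hO x).fromSpec ≫ g) f (q x) V.ι (by rw [hq, Category.assoc]) i hi
      exact ⟨(und e).inv ≫ t, isMaximalTorus_und_inv e t ht⟩
    choose t ht using h2
    exact ⟨fun x => t x.1, fun x => ht x.1⟩

end main

/-- **Main theorem.** -/
theorem main (G : Over S) [GrpObj G] [Smooth G.hom] [IsSeparated G.hom] [QuasiCompact G.hom]
    (hG : SGA3x.HasMaxTorusFpqcLocally G) : SGA3x.HasMaxTorusEtaleLocally G := by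
  refine Groth.Agent.Sga3.H795.DisjGrp.hasMaxTorusEtaleLocally_of_forall G fun s => ?_
  obtain ⟨l, hl, hls⟩ := exists_inv s
  obtain ⟨V, hV, hsV, hVl⟩ := exists_isAffineOpen_mem_and_subset hls
  have hinv : HomFin.Inv l V.toScheme := inv_of_le V l hVl
  obtain ⟨κ, _, A, _, f, hf, hs, r, t, ht⟩ := exists_affine_family G hG V hV
  have hVa : IsAffine V.toScheme := hV
  have h1 : Smooth (Red.bc V.ι G).hom := inferInstanceAs (Smooth (pullback.snd G.hom V.ι))
  have h2 : IsSeparated (Red.bc V.ι G).hom := inferInstanceAs (IsSeparated (pullback.snd G.hom V.ι))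
  have h3 : QuasiCompact (Red.bc V.ι G).hom := inferInstanceAs (QuasiCompact (pullback.snd G.hom V.ι))
  obtain ⟨n, ⟨Fm⟩⟩ := exists_fam (G := Red.bc V.ι G) hl hinv A f hf hs r t ht
  obtain ⟨S', e, he, ⟨s', hs'⟩, T, _, i, hi⟩ := EtLoc.exists_etale Fm ⟨s, hsV⟩
  refine ⟨S', e ≫ V.ι, inferInstance, ⟨s', ?_⟩, T, inferInstance, i ≫ (Over.pullbackComp e V.ι).inv.app G, ?_⟩
  · rw [Scheme.Hom.comp_apply, hs']
    rfl
  · refine AlgBc.isMaximalTorus_of_arrow (Iso.refl _) (BcIso.bcCompIso e V.ι G).symm ?_ hi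
    rw [MTDesc.und_bcCompIso_symm]
    exact (Category.id_comp _).symm

end Groth.Agent.Sga3.H797.RedLoc
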