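import Groth.Agent.Sga3.H797.LocKer
import Groth.Agent.Sga3B.CentRep

/-!
# Homomorphisms from a finite constant group to a group scheme

`Γ` a finite group, `G` a separated group scheme over `S`.

* `exists_pow`: finite powers of an `S`-scheme.
* `exists_rep`: the functor `T ↦ Hom(Γ, G(T))` is represented by a closed subscheme of a power of `G`.
* `smooth_rep`: it is smooth over `S` if `G` is and the order of `Γ` is invertible on `S`.
* `smooth_orbit`: the map `(g, y) ↦ (g φ(y) g⁻¹, y)` from `G × Y` to `Hom(Γ, G) × Y` is smooth, for a family of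
  homomorphisms `φ` parametrised by `Y`.
-/

set_option autoImplicit false
universe u
open CategoryTheory MonoidalCategory CartesianMonoidalCategory MonObj GrpObj AlgebraicGeometry Limits

namespace Groth.Agent.Sga3.H797.HomFin

open Groth.Agent.Sga3B.InfConj Groth.Agent.Sga3B.InfConjFam Groth.Agent.Sga3B.CentRep LocKer

variable {S : Scheme.{u}}

/-- Finite powers. -/
theorem exists_pow (G : Over S) (n : ℕ) : ∃ (P : Over S) (p : Fin n → (P ⟶ G)),
    (∀ (T : Over S) (f : Fin n → (T ⟶ G)), ∃! t : T ⟶ P, ∀ i, t ≫ p i = f i) ∧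
    (LocallyOfFinitePresentation G.hom → LocallyOfFinitePresentation P.hom) ∧
    (IsSeparated G.hom → IsSeparated P.hom) ∧ (QuasiCompact G.hom → QuasiCompact P.hom) := by
  induction n with
  | zero =>
    refine ⟨𝟙_ (Over S), Fin.elim0, fun T f => ⟨toUnit T, fun i => i.elim0, fun _ _ => toUnit_unique _ _⟩,
      fun _ => ?_, fun _ => ?_, fun _ => ?_⟩
    · exact inferInstanceAs (LocallyOfFinitePresentation (𝟙 S))
    · exact inferInstanceAs (IsSeparated (𝟙 S))
    · exact inferInstanceAs (QuasiCompact (𝟙 S))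
  | succ n ih =>
    obtain ⟨P, p, hP, h1, h2, h3⟩ := ih
    refine ⟨G ⊗ P, Fin.cons (fst G P) (fun i => snd G P ≫ p i), ?_, fun h => ?_, fun h => ?_, fun h => ?_⟩
    · intro T f
      obtain ⟨t, ht, htu⟩ := hP T (fun i => f i.succ)
      refine ⟨lift (f 0) t, fun i => ?_, fun t' ht' => ?_⟩
      · refine Fin.cases ?_ (fun i => ?_) i
        · simp
        · simp only [Fin.cons_succ, lift_snd_assoc]
          exact ht i
      · apply CartesianMonoidalCategory.hom_ext
        · rw [lift_fst]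
          exact ht' 0
        · rw [lift_snd]
          apply htu
          intro i
          have := ht' i.succ
          simp only [Fin.cons_succ] at this
          rw [Category.assoc]
          exact this
    · have := h1 h
      have h4 : LocallyOfFinitePresentation (pullback.fst G.hom P.hom ≫ G.hom) := inferInstance
      exact h4
    · have := h2 h
      have h4 : IsSeparated (pullback.fst G.hom P.hom ≫ G.hom) := inferInstance
      exact h4
    · have := h3 h
      have h4 : QuasiCompact (pullback.fst G.hom P.hom ≫ G.hom) := inferInstance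
      exact h4

/-- Powers indexed by a finite type. -/
theorem exists_pow' (G : Over S) (J : Type*) [Finite J] : ∃ (P : Over S) (p : J → (P ⟶ G)),
    (∀ (T : Over S) (f : J → (T ⟶ G)), ∃! t : T ⟶ P, ∀ i, t ≫ p i = f i) ∧
    (LocallyOfFinitePresentation G.hom → LocallyOfFinitePresentation P.hom) ∧
    (IsSeparated G.hom → IsSeparated P.hom) ∧ (QuasiCompact G.hom → QuasiCompact P.hom) := by
  obtain ⟨P, p, hP, h1⟩ := exists_pow G (Nat.card J)
  let e := Finite.equivFin J
  refine ⟨P, fun j => p (e j), fun T f => ?_, h1⟩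
  obtain ⟨t, ht, htu⟩ := hP T (fun i => f (e.symm i))
  refine ⟨t, fun i => ?_, fun t' ht' => htu t' fun i => ?_⟩
  · have := ht (e i)
    rwa [Equiv.symm_apply_apply] at this
  · have := ht' (e.symm i)
    simp only [Equiv.apply_symm_apply] at this
    exact this

lemma isClosedImmersion_diag (W : Over S) [IsSeparated W.hom] :
    IsClosedImmersion (lift (𝟙 W) (𝟙 W)).left := by
  have h : (lift (𝟙 W) (𝟙 W)).left = pullback.diagonal W.hom := by
    apply pullback.hom_ext
    · rw [pullback.diagonal_fst]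
      exact congrArg CommaMorphism.left (lift_fst (𝟙 W) (𝟙 W))
    · rw [pullback.diagonal_snd]
      exact congrArg CommaMorphism.left (lift_snd (𝟙 W) (𝟙 W))
  rw [h]
  infer_instance

lemma locallyOfFinitePresentation_diag (W : Over S) [LocallyOfFiniteType W.hom] :
    LocallyOfFinitePresentation (lift (𝟙 W) (𝟙 W)).left := by
  have h : (lift (𝟙 W) (𝟙 W)).left ≫ pullback.fst W.hom W.hom = 𝟙 _ :=
    congrArg CommaMorphism.left (lift_fst (𝟙 W) (𝟙 W))
  have : LocallyOfFinitePresentation ((lift (𝟙 W) (𝟙 W)).left ≫ pullback.fst W.hom W.hom) := by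
    rw [h]
    infer_instance
  exact Ega43.FPOfComp.locallyOfFinitePresentation_of_comp _ (pullback.fst W.hom W.hom)

/-- Coincidence subschemes. -/
theorem exists_eq {P W : Over S} (a b : P ⟶ W) [IsSeparated W.hom] :
    ∃ (Z : Over S) (z : Z ⟶ P), IsClosedImmersion z.left ∧
      (∀ (T : Over S) (g : T ⟶ P), (∃ t : T ⟶ Z, t ≫ z = g) ↔ g ≫ a = g ≫ b) ∧
      (LocallyOfFiniteType W.hom → LocallyOfFinitePresentation z.left) := by
  have h0 := isClosedImmersion_diag W
  have H1 := isPullback_left (IsPullback.of_hasPullback (lift a b) (lift (𝟙 W) (𝟙 W)))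
  refine ⟨pullback (lift a b) (lift (𝟙 W) (𝟙 W)), pullback.fst _ _,
    MorphismProperty.of_isPullback H1.flip inferInstance, fun T g => ?_, fun h => ?_⟩
  · constructor
    · rintro ⟨t, rfl⟩
      have h1 := congrArg (fun f => (t ≫ f) ≫ fst _ _) (pullback.condition (f := lift a b) (g := lift (𝟙 W) (𝟙 W)))
      have h2 := congrArg (fun f => (t ≫ f) ≫ snd _ _) (pullback.condition (f := lift a b) (g := lift (𝟙 W) (𝟙 W)))
      simp only [Category.assoc, lift_fst, lift_snd, Category.comp_id] at h1 h2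
      rw [Category.assoc, Category.assoc, h1, h2]
    · intro h
      refine ⟨pullback.lift g (g ≫ a) ?_, pullback.lift_fst _ _ _⟩
      rw [comp_lift, comp_lift, Category.comp_id, h]
  · have := locallyOfFinitePresentation_diag W
    exact MorphismProperty.of_isPullback H1.flip inferInstance

variable (G : Over S) [GrpObj G] (Γ : Type*) [Group Γ]

/-- `υ` exhibits `H` as the scheme of homomorphisms from the constant group `Γ` to `G`. -/
structure IsHomScheme (H : Over S) (υ : Γ →* (H ⟶ G)) : Prop where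
  existsUnique : ∀ (T : Over S) (φ : Γ →* (T ⟶ G)), ∃! t : T ⟶ H, ∀ γ, t ≫ υ γ = φ γ

/-- **Representability.** -/
theorem exists_rep [Finite Γ] [IsSeparated G.hom] : ∃ (H : Over S) (υ : Γ →* (H ⟶ G)),
    IsHomScheme G Γ H υ ∧ IsSeparated H.hom ∧ (LocallyOfFinitePresentation G.hom → LocallyOfFinitePresentation H.hom) ∧
    (QuasiCompact G.hom → QuasiCompact H.hom) := by
  obtain ⟨P, p, hP, hP1, hP2, hP3⟩ := exists_pow' G Γ
  obtain ⟨W, q, hW, hW1, hW2, hW3⟩ := exists_pow' G (Γ × Γ)
  have := hP2 inferInstance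
  have := hW2 inferInstance
  obtain ⟨a, ha, -⟩ := hW P (fun x => p (x.1 * x.2))
  obtain ⟨b, hb, -⟩ := hW P (fun x => p x.1 * p x.2)
  obtain ⟨H, z, hz, huniv, hfp⟩ := exists_eq a b
  have hmono : Mono z := Over.mono_of_mono_left z
  have hz1 : ∀ γ δ, z ≫ p (γ * δ) = (z ≫ p γ) * (z ≫ p δ) := by
    intro γ δ
    have h1 := (huniv H z).1 ⟨𝟙 _, Category.id_comp _⟩
    have h2 := congrArg (fun f => f ≫ q (γ, δ)) h1
    simp only [Category.assoc, ha, hb] at h2
    rw [h2, MonObj.comp_mul]
  refine ⟨H, MonoidHom.mk' (fun γ => z ≫ p γ) hz1, ⟨fun T φ => ?_⟩, ?_, fun h => ?_, fun h => ?_⟩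
  · obtain ⟨t, ht, htu⟩ := hP T φ
    have h3 : t ≫ a = t ≫ b := by
      exact (hW T (fun x => φ (x.1 * x.2))).unique (fun i => by rw [Category.assoc, ha, ht])
        (fun i => by rw [Category.assoc, hb, MonObj.comp_mul, ht, ht, map_mul])
    obtain ⟨t', ht'⟩ := (huniv T t).2 h3
    refine ⟨t', fun γ => ?_, fun t'' ht'' => ?_⟩
    · change t' ≫ z ≫ p γ = φ γ
      rw [← Category.assoc, ht', ht]
    · rw [← cancel_mono z, ht']
      apply htu
      intro γ
      rw [Category.assoc]
      exact ht'' γ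
  · have : IsSeparated (z.left ≫ P.hom) := inferInstance
    rwa [Over.w] at this
  · have h1 := hP1 h
    have h2 := hW1 h
    have h3 := hfp inferInstance
    have : LocallyOfFinitePresentation (z.left ≫ P.hom) := inferInstance
    rwa [Over.w] at this
  · have h1 := hP3 h
    have : QuasiCompact (z.left ≫ P.hom) := inferInstance
    rwa [Over.w] at this

variable {G Γ}

/-- Lifting points of a smooth scheme modulo a square zero ideal. -/
lemma exists_lift_pt {X : Over S} [Smooth X.hom] {B : Type u} [CommRing B] (I : Ideal B) (hI : I * I = ⊥)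
    (x : Spec (CommRingCat.of B) ⟶ S)
    (g₀ : Over.mk (Spec.map (CommRingCat.ofHom (Ideal.Quotient.mk I)) ≫ x) ⟶ X) :
    ∃ g : Over.mk x ⟶ X, redMap x I ≫ g = g₀ := by
  obtain ⟨l, hl1, hl2⟩ := Flat2H.FSSmoothHom.isFormallySmoothHom_of_smooth X.hom B I (by rw [pow_two, hI])
    g₀.left x (by rw [Over.w]; rfl)
  refine ⟨Over.homMk l hl2, ?_⟩
  apply Over.OverMorphism.ext
  exact hl1

/-- `n` is invertible on `S`. -/
def Inv (n : ℕ) (S : Scheme.{u}) : Prop := IsUnit ((n : ℕ) : Γ(S, ⊤))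

lemma Inv.of_hom {n : ℕ} {S S' : Scheme.{u}} (h : Inv n S) (f : S' ⟶ S) : Inv n S' := by
  have := h.map f.appTop.hom
  rwa [map_natCast] at this

lemma Inv.isUnit {n : ℕ} {B : Type u} [CommRing B] (h : Inv n (Spec (CommRingCat.of B))) : IsUnit (n : B) := by
  have := IsUnit.map (Scheme.ΓSpecIso (CommRingCat.of B)).hom.hom h
  rwa [map_natCast] at this

section smooth

variable {H : Over S} {υ : Γ →* (H ⟶ G)} (hH : IsHomScheme G Γ H υ) [Finite Γ]

include hH in
/-- **Smoothness** of the scheme of homomorphisms. -/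
theorem smooth_rep [Smooth G.hom] [LocallyOfFinitePresentation H.hom] (hn : Inv (Nat.card Γ) S) :
    Smooth H.hom := by
  apply Groth.Agent.Sga3B.LocalLift.smooth_of_local_lift
  intro B _ _ I hI α β h
  let α₀ : Over.mk (Spec.map (CommRingCat.ofHom (Ideal.Quotient.mk I)) ≫ β) ⟶ H := Over.homMk α h.symm
  let φ : Γ →* (Over.mk (Spec.map (CommRingCat.ofHom (Ideal.Quotient.mk I)) ≫ β) ⟶ G) :=
    (InfChart.pre G α₀).comp υ
  choose g hg using fun γ => exists_lift_pt I hI β (φ γ)
  obtain ⟨ψ, hψ⟩ := exists_lift_hom β G hI (hn.of_hom β).isUnit φ g hg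
  obtain ⟨t, ht, -⟩ := hH.existsUnique _ ψ
  have h1 : redMap β I ≫ t = α₀ :=
    (hH.existsUnique _ φ).unique (fun γ => by rw [Category.assoc, ht, hψ]) (fun γ => rfl)
  exact ⟨t.left, congrArg CommaMorphism.left h1, Over.w t⟩

include hH in
/-- **Smoothness of the orbit map.** -/
theorem smooth_orbit [Smooth G.hom] [LocallyOfFinitePresentation H.hom] (hn : Inv (Nat.card Γ) S)
    {Y : Over S} (φ : Γ →* (Y ⟶ G)) (o : G ⊗ Y ⟶ H ⊗ Y) (ho : o ≫ snd H Y = snd G Y)
    (ho' : ∀ γ, o ≫ fst H Y ≫ υ γ = fst G Y * (snd G Y ≫ φ γ) * (fst G Y)⁻¹) : Smooth o.left := by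
  have hfp : LocallyOfFinitePresentation o.left := by
    have h1 : o.left ≫ pullback.snd H.hom Y.hom = pullback.snd G.hom Y.hom := congrArg CommaMorphism.left ho
    have : LocallyOfFinitePresentation (o.left ≫ pullback.snd H.hom Y.hom) := by
      rw [h1]; infer_instance
    exact Ega43.FPOfComp.locallyOfFinitePresentation_of_comp _ (pullback.snd H.hom Y.hom)
  apply Groth.Agent.Sga3B.LocalLift.smooth_of_local_lift
  intro B _ _ I hI α β h
  let x : Spec (CommRingCat.of B) ⟶ S := β ≫ (H ⊗ Y).hom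
  let b : Over.mk x ⟶ H ⊗ Y := Over.homMk β
  let α₀ : Over.mk (Spec.map (CommRingCat.ofHom (Ideal.Quotient.mk I)) ≫ x) ⟶ G ⊗ Y := Over.homMk α (by
    change α ≫ (G ⊗ Y).hom = Spec.map _ ≫ β ≫ (H ⊗ Y).hom
    rw [← Category.assoc, h, Category.assoc, Over.w])
  have hα : α₀ ≫ o = redMap x I ≫ b := by
    apply Over.OverMorphism.ext
    exact h.symm
  obtain ⟨g₁, hg₁⟩ := exists_lift_pt I hI x (α₀ ≫ fst G Y)
  let ψ₁ : Γ →* (Over.mk x ⟶ G) :=
    (MulAut.conj g₁).toMonoidHom.comp ((InfChart.pre G (b ≫ snd H Y)).comp φ)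
  let ψ₂ : Γ →* (Over.mk x ⟶ G) := (InfChart.pre G (b ≫ fst H Y)).comp υ
  have e1 : ∀ γ, ψ₁ γ = g₁ * (b ≫ snd H Y ≫ φ γ) * g₁⁻¹ := fun γ => by
    change g₁ * ((b ≫ snd H Y) ≫ φ γ) * g₁⁻¹ = _
    rw [Category.assoc]
  have e2 : ∀ γ, ψ₂ γ = b ≫ fst H Y ≫ υ γ := fun γ => by
    change (b ≫ fst H Y) ≫ υ γ = _
    rw [Category.assoc]
  obtain ⟨w, hw1, hw2⟩ := exists_conj_hom x G hI (hn.of_hom x).isUnit ψ₁ ψ₂ (by
    intro γ
    rw [e1, e2, MonObj.comp_mul, MonObj.comp_mul, GrpObj.comp_inv, hg₁, ← Category.assoc (redMap x I) b,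
      ← Category.assoc (redMap x I) b, ← hα, Category.assoc, Category.assoc, ho', reassoc_of% ho,
      MonObj.comp_mul, MonObj.comp_mul, GrpObj.comp_inv])
  let γ₀ : Over.mk x ⟶ G ⊗ Y := lift (w * g₁) (b ≫ snd H Y)
  have h2 : γ₀ ≫ o = b := by
    apply CartesianMonoidalCategory.hom_ext
    · refine (hH.existsUnique _ ψ₂).unique (fun γ => ?_) (fun γ => rfl)
      rw [Category.assoc, Category.assoc, ho', MonObj.comp_mul, MonObj.comp_mul, GrpObj.comp_inv, hw2, e1]
      simp only [γ₀, lift_fst, lift_snd_assoc, Category.assoc]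
      group
    · rw [Category.assoc, ho, lift_snd]
  refine ⟨γ₀.left, ?_, congrArg CommaMorphism.left h2⟩
  have h3 : redMap x I ≫ γ₀ = α₀ := by
    apply CartesianMonoidalCategory.hom_ext
    · rw [Category.assoc, lift_fst, MonObj.comp_mul, hw1, _root_.one_mul, hg₁]
    · rw [Category.assoc, lift_snd, ← Category.assoc (redMap x I) b, ← hα, Category.assoc, ho]
  exact congrArg CommaMorphism.left h3

end smooth

end Groth.Agent.Sga3.H797.HomFin
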