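import Groth.Agent.Sga3B.InfConjFam

/-!
# Points of a group scheme infinitesimally near the unit section

`UChart G`: an affine open neighbourhood `Spec D` of the unit section of a group scheme `G` over `Spec C`.
`toPt ξ : pt C E ⟶ G` for `ξ : D →ₐ[C] E`; points of `G(E)` which are trivial modulo a square zero ideal `J`
are the `toPt ξ` with `ξ ≡ ε` modulo `J`.
-/

set_option autoImplicit false
universe u
open CategoryTheory MonoidalCategory CartesianMonoidalCategory MonObj GrpObj AlgebraicGeometry Limits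

namespace Groth.Agent.Sga3.H797.InfChart

open Groth.Agent.Sga3B.DSPts Groth.Agent.Sga3B.InfConj Groth.Agent.Sga3B.InfConjFam

variable {C : Type u} [CommRing C]

/-- An affine open neighbourhood of the unit section. -/
structure UChart (G : Over (Spec (CommRingCat.of C))) [GrpObj G] where
  /-- the coordinate ring -/
  D : Type u
  [cD : CommRing D]
  [aD : Algebra C D]
  /-- the open immersion -/
  j : Spec (CommRingCat.of D) ⟶ G.left
  [isOpen : IsOpenImmersion j]
  comp : j ≫ G.hom = Spec.map (CommRingCat.ofHom (algebraMap C D))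
  /-- the unit section -/
  ε : D →ₐ[C] C
  unit : η[G].left = Spec.map (CommRingCat.ofHom ε.toRingHom) ≫ j

attribute [instance] UChart.cD UChart.aD UChart.isOpen

theorem exists_uChart (G : Over (Spec (CommRingCat.of C))) [GrpObj G] (h : HasAffineUnitNhd G) :
    Nonempty (UChart G) := by
  obtain ⟨D, j, hj, hj'⟩ := h
  obtain ⟨ε, hε⟩ := exists_unit_ringHom G D j hj'
  let κ : CommRingCat.of C ⟶ D := Spec.preimage (j ≫ G.hom)
  have hκ : j ≫ G.hom = Spec.map κ := (Spec.map_preimage _).symm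
  let _ : Algebra C D := κ.hom.toAlgebra
  have h1 : κ ≫ ε = 𝟙 _ := by
    apply Spec.map_injective
    rw [Spec.map_comp, ← hκ, ← Category.assoc, ← hε, Spec.map_id]
    exact Over.w η[G]
  refine ⟨⟨D, j, hκ, { ε.hom with commutes' := fun r => congr($(h1).hom r) }, hε⟩⟩

variable {G : Over (Spec (CommRingCat.of C))} [GrpObj G] (U : UChart G)

/-- The point of `G` with values in `E` given by `ξ : D → E`. -/
noncomputable def toPt {E : Type u} [CommRing E] [Algebra C E] (ξ : U.D →ₐ[C] E) : pt C E ⟶ G :=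
  Over.homMk (Spec.map (CommRingCat.ofHom ξ.toRingHom) ≫ U.j) (by
    rw [Category.assoc, U.comp, ← Spec.map_comp, ← CommRingCat.ofHom_comp]
    change _ = Spec.map _
    congr 2
    exact ξ.comp_algebraMap)

lemma toPt_left {E : Type u} [CommRing E] [Algebra C E] (ξ : U.D →ₐ[C] E) :
    (toPt U ξ).left = Spec.map (CommRingCat.ofHom ξ.toRingHom) ≫ U.j := rfl

lemma toPt_injective {E : Type u} [CommRing E] [Algebra C E] :
    Function.Injective (toPt U (E := E)) := by
  intro ξ ξ' h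
  have h1 := congrArg CommaMorphism.left h
  change Spec.map _ ≫ U.j = Spec.map _ ≫ U.j at h1
  rw [cancel_mono] at h1
  have h2 := Spec.map_injective h1
  apply AlgHom.ext
  intro d
  exact congr($(h2).hom d)

lemma ptMap_toPt {E E' : Type u} [CommRing E] [Algebra C E] [CommRing E'] [Algebra C E'] (φ : E →ₐ[C] E')
    (ξ : U.D →ₐ[C] E) : ptMap φ ≫ toPt U ξ = toPt U (φ.comp ξ) := by
  ext1
  rw [Over.comp_left, toPt_left, toPt_left, ptMap_left, ← Category.assoc, ← Spec.map_comp,
    ← CommRingCat.ofHom_comp]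
  rfl

lemma toPt_unit (E : Type u) [CommRing E] [Algebra C E] :
    toPt U ((Algebra.ofId C E).comp U.ε) = 1 := by
  ext1
  rw [toPt_left, Hom.one_def, Over.comp_left, U.unit]
  have h : (toUnit (pt C E)).left = Spec.map (CommRingCat.ofHom (algebraMap C E)) := rfl
  rw [h, ← Category.assoc, ← Spec.map_comp, ← CommRingCat.ofHom_comp]
  rfl

/-- Precomposition as a homomorphism. -/
def pre {𝒞 : Type*} [Category 𝒞] [CartesianMonoidalCategory 𝒞] (G : 𝒞) [GrpObj G] {T T' : 𝒞} (f : T' ⟶ T) :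
    (T ⟶ G) →* (T' ⟶ G) where
  toFun x := f ≫ x
  map_one' := MonObj.comp_one _
  map_mul' _ _ := MonObj.comp_mul _ _ _

@[simp] lemma pre_apply {𝒞 : Type*} [Category 𝒞] [CartesianMonoidalCategory 𝒞] (G : 𝒞) [GrpObj G] {T T' : 𝒞}
    (f : T' ⟶ T) (x : T ⟶ G) : pre G f x = f ≫ x := rfl

variable {U}

lemma exists_of_inf {E : Type u} [CommRing E] [Algebra C E] (J : Ideal E) (hJ : J * J = ⊥)
    (x : pt C E ⟶ G) (hx : ptMap (Ideal.Quotient.mkₐ C J) ≫ x = 1) :
    ∃ ξ : U.D →ₐ[C] E, x = toPt U ξ ∧ ∀ d, ξ d - algebraMap C E (U.ε d) ∈ J := by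
  obtain ⟨ξ, h1, h2⟩ := exists_ringHom G (CommRingCat.of U.D) U.j (CommRingCat.ofHom U.ε.toRingHom) U.unit
    J hJ x hx
  have h3 : CommRingCat.ofHom (algebraMap C U.D) ≫ ξ = CommRingCat.ofHom (algebraMap C E) := by
    apply Spec.map_injective
    rw [Spec.map_comp, ← U.comp, ← Category.assoc, ← h1]
    exact Over.w x
  refine ⟨{ ξ.hom with commutes' := fun r => congr($(h3).hom r) }, ?_, h2⟩
  ext1
  exact h1

lemma inf_of_toPt {E E' : Type u} [CommRing E] [Algebra C E] [CommRing E'] [Algebra C E'] (φ : E →ₐ[C] E')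
    (ξ : U.D →ₐ[C] E) (h : ∀ d, φ (ξ d) = algebraMap C E' (U.ε d)) : ptMap φ ≫ toPt U ξ = 1 := by
  rw [ptMap_toPt, ← toPt_unit]
  congr 1
  apply AlgHom.ext
  exact h

/-- Two points trivial modulo `J` agree if they agree in all members of a jointly injective family. -/
lemma eq_of_inf (U : UChart G) {E : Type u} [CommRing E] [Algebra C E] (J : Ideal E) (hJ : J * J = ⊥)
    (x y : pt C E ⟶ G) (hx : ptMap (Ideal.Quotient.mkₐ C J) ≫ x = 1)
    (hy : ptMap (Ideal.Quotient.mkₐ C J) ≫ y = 1)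
    {idx : Type*} (F : idx → Type u) [∀ i, CommRing (F i)] [∀ i, Algebra C (F i)] (φ : ∀ i, E →ₐ[C] F i)
    (hφ : ∀ a b : E, (∀ i, φ i a = φ i b) → a = b) (h : ∀ i, ptMap (φ i) ≫ x = ptMap (φ i) ≫ y) : x = y := by
  obtain ⟨ξ, rfl, -⟩ := exists_of_inf (U := U) J hJ x hx
  obtain ⟨ζ, rfl, -⟩ := exists_of_inf (U := U) J hJ y hy
  congr 1
  apply AlgHom.ext
  intro d
  refine hφ _ _ fun i => ?_
  have h1 := h i
  rw [ptMap_toPt, ptMap_toPt] at h1
  exact congr($(toPt_injective U h1) d)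

end Groth.Agent.Sga3.H797.InfChart
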