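import Groth.Agent.Sga3.H828.MTGeom
import Groth.Agent.Sga3.H828.SubgrpObj
import Groth.Agent.Desc.LocalRep
import Groth.Agent.Sga3B.MT.MemOps

/-!
# Descent of affine subgroups and of maximal tori along flat surjective quasi-compact morphisms

`q : S' ⟶ S` flat, surjective, quasi-compact, `t : T ⟶ bc q G` a monomorphic homomorphism, `T` affine over `S'`, whose
two inverse images on `S' ×_S S'` are equal (`MemAt t a g → MemAt t b g`). There is a subgroup `p : P ⟶ G` with
`bc q P = T`. No closedness is assumed.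
-/

set_option autoImplicit false
universe v u
open CategoryTheory MonoidalCategory CartesianMonoidalCategory MonObj GrpObj AlgebraicGeometry Limits Opposite

namespace Groth.Agent.Sga3.H797.FpqcSub

open Groth.Agent.Sga3B Groth.Agent.Sga3B.BcPts Groth.Agent.Sga3B.MT Groth.Agent.Sga3B.RedIso
  Groth.Agent.Sga3.H828 Groth.Agent.Desc.SecFunctor Groth.Agent.Desc.SecPresheaf

variable {S S' : Scheme.{u}}

/-- Morphisms descend along flat surjective quasi-compact morphisms. -/
lemma exists_desc {T' T H : Over S} (g : T' ⟶ T) [Flat g.left] [Surjective g.left] [QuasiCompact g.left]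
    (a : T' ⟶ H) (ha : ∀ (Z : Over S) (z₀ z₁ : Z ⟶ T'), z₀ ≫ g = z₁ ≫ g → z₀ ≫ a = z₁ ≫ a) :
    ∃ y : T ⟶ H, g ≫ y = a := by
  have : Epi g.left := Flat.epi_of_flat_of_surjective g.left
  have h1 : ∀ {Z : Scheme.{u}} (z₀ z₁ : Z ⟶ T'.left), z₀ ≫ g.left = z₁ ≫ g.left →
      z₀ ≫ a.left = z₁ ≫ a.left := by
    intro Z z₀ z₁ hz
    have hz' : z₁ ≫ T'.hom = z₀ ≫ T'.hom := by
      rw [← Over.w g, ← Category.assoc, ← hz, Category.assoc]
    have h2 := ha (Over.mk (z₀ ≫ T'.hom)) (Over.homMk z₀ rfl) (Over.homMk z₁ hz') (by ext1; exact hz)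
    exact congrArg (fun f => f.left) h2
  let y₀ : T.left ⟶ H.left := EffectiveEpi.desc g.left a.left h1
  have hy₀ : g.left ≫ y₀ = a.left := EffectiveEpi.fac _ _ _
  refine ⟨Over.homMk y₀ ?_, ?_⟩
  · rw [← cancel_epi g.left, ← Category.assoc, hy₀, Over.w, Over.w]
  · ext1
    exact hy₀

lemma hom_ext_of_fpqc {T' T H : Over S} (g : T' ⟶ T) [Flat g.left] [Surjective g.left] [QuasiCompact g.left]
    {a b : T ⟶ H} (h : g ≫ a = g ≫ b) : a = b := by
  have : Epi g.left := Flat.epi_of_flat_of_surjective g.left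
  ext1
  rw [← cancel_epi g.left]
  exact congrArg (fun f => f.left) h

variable {q : S' ⟶ S} {G : Over S} {T : Over S'}

/-- `MemAt` descends along flat surjective quasi-compact morphisms. -/
lemma memAt_of_fpqc (t : T ⟶ Red.bc q G) [Mono t] {X' X : Over S} (h : X' ⟶ X) [Flat h.left]
    [Surjective h.left] [QuasiCompact h.left] {a : X ⟶ Over.mk q} {g : X ⟶ G}
    (H : MemAt t (h ≫ a) (h ≫ g)) : MemAt t a g := by
  obtain ⟨x, hx⟩ := (memAt_iff t _ _).1 H
  rw [bcPt_comp] at hx
  have h1 : Flat (ovMap h a).left := inferInstanceAs (Flat h.left)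
  have h2 : Surjective (ovMap h a).left := inferInstanceAs (Surjective h.left)
  have h3 : QuasiCompact (ovMap h a).left := inferInstanceAs (QuasiCompact h.left)
  obtain ⟨y, hy⟩ := exists_desc (ovMap h a) x (fun Z z₀ z₁ hz => by
    rw [← cancel_mono t, Category.assoc, Category.assoc, hx, reassoc_of% hz])
  refine (memAt_iff t _ _).2 ⟨y, ?_⟩
  apply hom_ext_of_fpqc (ovMap h a)
  rw [← hx, ← hy, Category.assoc]

/-- the condition on points -/
def Cond (t : T ⟶ Red.bc q G) (X : Over S) (g : X ⟶ G) : Prop :=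
  ∀ (X' : Over S) (h : X' ⟶ X) (a : X' ⟶ Over.mk q), MemAt t a (h ≫ g)

lemma Cond.comp {t : T ⟶ Red.bc q G} {X X' : Over S} {g : X ⟶ G} (H : Cond t X g) (h : X' ⟶ X) :
    Cond t X' (h ≫ g) := fun X'' h' a => by
  have := H X'' (h' ≫ h) a
  rwa [Category.assoc] at this

lemma Cond.of_fpqc {t : T ⟶ Red.bc q G} [Mono t] {X X' : Over S} {g : X ⟶ G} (h : X' ⟶ X) [Flat h.left]
    [Surjective h.left] [QuasiCompact h.left] (H : Cond t X' (h ≫ g)) : Cond t X g := by
  intro Y y a
  let r : Over.mk (pullback.fst y.left h.left ≫ Y.hom) ⟶ Y := Over.homMk (pullback.fst y.left h.left)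
  let s : Over.mk (pullback.fst y.left h.left ≫ Y.hom) ⟶ X' :=
    Over.homMk (pullback.snd y.left h.left) (by
      change pullback.snd y.left h.left ≫ X'.hom = pullback.fst y.left h.left ≫ Y.hom
      rw [← Over.w h, ← Category.assoc, ← pullback.condition, Category.assoc, Over.w])
  have e : r ≫ y = s ≫ h := by
    ext1
    exact pullback.condition
  have : Flat r.left := inferInstanceAs (Flat (pullback.fst y.left h.left))
  have : Surjective r.left := inferInstanceAs (Surjective (pullback.fst y.left h.left))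
  have : QuasiCompact r.left := inferInstanceAs (QuasiCompact (pullback.fst y.left h.left))
  refine memAt_of_fpqc t r (a := a) (g := y ≫ g) ?_
  rw [← Category.assoc, e, Category.assoc]
  exact H _ s _

/-- The functor of points satisfying the condition. -/
def condF (t : T ⟶ Red.bc q G) : (Over S)ᵒᵖ ⥤ Type u where
  obj X := {x : X.unop ⟶ G // Cond t _ x}
  map f := ↾fun x => ⟨f.unop ≫ x.1, x.2.comp _⟩
  map_id _ := ConcreteCategory.hom_ext _ _ fun _ => Subtype.ext (Category.id_comp _)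
  map_comp _ _ := ConcreteCategory.hom_ext _ _ fun _ => Subtype.ext (Category.assoc _ _ _)

lemma condF_map_val (t : T ⟶ Red.bc q G) {X Y : Over S} (f : Y ⟶ X) (x : (condF t).obj (op X)) :
    ((condF t).map f.op x).1 = f ≫ x.1 := rfl

theorem isDesc_condF (t : T ⟶ Red.bc q G) [Mono t] {X' X : Over S} (g : X' ⟶ X) [Flat g.left]
    [Surjective g.left] [QuasiCompact g.left] : IsDesc (condF t) g := by
  constructor
  · intro a b hab
    exact Subtype.ext (hom_ext_of_fpqc g (congrArg Subtype.val hab))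
  · intro a ha
    obtain ⟨y, hy⟩ := exists_desc g a.1 (fun Z z₀ z₁ hz => congrArg Subtype.val (ha Z z₀ z₁ hz))
    refine ⟨⟨y, Cond.of_fpqc g ?_⟩, Subtype.ext hy⟩
    rw [hy]
    exact a.2

/-- compatibility on `S' ×_S S'`. -/
def Compat (t : T ⟶ Red.bc q G) : Prop :=
  ∀ (X : Over S) (a b : X ⟶ Over.mk q) (g : X ⟶ G), MemAt t a g → MemAt t b g

lemma cond_over {t : T ⟶ Red.bc q G} (hc : Compat t) (X : Over S') (g : X ⟶ Red.bc q G) :
    (∃ x : X ⟶ T, x ≫ t = g) ↔ Cond t ((Over.map q).obj X) ((bcEquiv q X G).symm g) := by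
  rw [← MemAt.iff_of_over]
  constructor
  · intro H X' h a
    exact hc X' (h ≫ MemAt.strHom q X) a _ (H.comp h)
  · intro H
    have := H _ (𝟙 _) (MemAt.strHom q X)
    rwa [Category.id_comp] at this

lemma cond_of_memAt {t : T ⟶ Red.bc q G} (hc : Compat t) {X : Over S} (a : X ⟶ Over.mk q) (g : X ⟶ G)
    (h : MemAt t a g) : Cond t X g := fun X' b c => hc X' (b ≫ a) c _ (h.comp b)

/-- the functor is represented by `T` over `S'`. -/
theorem nonempty_representableBy {t : T ⟶ Red.bc q G} [Mono t] (hc : Compat t) :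
    Nonempty ((restr q (condF t)).RepresentableBy T) := by
  refine ⟨{ homEquiv := fun {X} => Equiv.ofBijective
              (fun x : X ⟶ T => (⟨(bcEquiv q X G).symm (x ≫ t), (cond_over hc X _).1 ⟨x, rfl⟩⟩ :
                {x : (Over.map q).obj X ⟶ G // Cond t _ x})) ⟨?_, ?_⟩
            homEquiv_comp := ?_ }⟩
  · intro x x' h
    have h1 := (bcEquiv q X G).symm.injective (congrArg Subtype.val h)
    exact (cancel_mono t).1 h1
  · rintro ⟨x, hx⟩
    obtain ⟨y, hy⟩ := (cond_over hc X (bcEquiv q X G x)).2 (by rwa [Equiv.symm_apply_apply])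
    refine ⟨y, Subtype.ext ?_⟩
    change (bcEquiv q X G).symm (y ≫ t) = x
    rw [hy, Equiv.symm_apply_apply]
  · intro X X' f g
    refine Subtype.ext ?_
    change (bcEquiv q X G).symm ((f ≫ g) ≫ t) = (Over.map q).map f ≫ (bcEquiv q X' G).symm (g ≫ t)
    rw [Category.assoc, comp_bcEquiv_symm]

theorem isPSheaf_condF (t : T ⟶ Red.bc q G) [Mono t] [Flat q] [Surjective q] [QuasiCompact q] :
    IsPSheaf q (condF t) := by
  intro X
  have h1 : Flat (projT q X).left := inferInstanceAs (Flat (pullback.snd q X.hom))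
  have h2 : Surjective (projT q X).left := inferInstanceAs (Surjective (pullback.snd q X.hom))
  have h3 : QuasiCompact (projT q X).left := inferInstanceAs (QuasiCompact (pullback.snd q X.hom))
  exact isDesc_condF t (projT q X)

/-- **Descent of affine subgroups.** -/
theorem exists_subgroup [Flat q] [Surjective q] [QuasiCompact q] [GrpObj G] [GrpObj T] (t : T ⟶ Red.bc q G)
    [IsMonHom t] [Mono t] [IsAffineHom T.hom] (hc : Compat t) :
    ∃ (P : Over S) (_ : GrpObj P) (p : P ⟶ G), IsMonHom p ∧ Mono p ∧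
      (∀ (X : Over S) (g : X ⟶ G), (∃ x, x ≫ p = g) ↔ Cond t X g) ∧
      ∃ e : Grp.mk T ≅ Grp.mk (Red.bc q P), (und e).hom ≫ (Over.pullback q).map p = t := by
  obtain ⟨e⟩ := nonempty_representableBy hc
  have hE' : Mor2.IsQuasiAffine T.hom := by
    refine ⟨inferInstance, fun O hO => ?_⟩
    have : IsAffine (T.hom ⁻¹ᵁ O : Scheme.{u}) := hO.preimage T.hom
    infer_instance
  obtain ⟨P, ⟨r⟩, -⟩ := Groth.Agent.Desc.LocalRep.exists_rep_of_fpqc q (isPSheaf_condF t) T hE' e
  let p : P ⟶ G := (r.homEquiv (𝟙 P)).1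
  have hri : ∀ {X : Over S} (x : X ⟶ P), (r.homEquiv x).1 = x ≫ p := by
    intro X x
    have h1 := r.homEquiv_comp x (𝟙 P)
    rw [Category.comp_id] at h1
    exact congrArg Subtype.val h1
  have hmono : Mono p := by
    constructor
    intro X a b hab
    apply r.homEquiv.injective
    apply Subtype.ext
    rw [hri, hri, hab]
  have hi : ∀ (X : Over S) (x : X ⟶ G), Cond t X x ↔ ∃ y : X ⟶ P, y ≫ p = x := by
    intro X x
    constructor
    · intro hx
      obtain ⟨y, hy⟩ := r.homEquiv.surjective (⟨x, hx⟩ : (condF t).obj (op X))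
      exact ⟨y, by rw [← hri, hy]⟩
    · rintro ⟨y, rfl⟩
      rw [← hri]
      exact (r.homEquiv y).2
  let Q : ∀ X : Over S, Subgroup (X ⟶ G) := fun X =>
    { carrier := {x | Cond t X x}
      mul_mem' := fun hx hy X' h a => by rw [MonObj.comp_mul]; exact (hx X' h a).mul (hy X' h a)
      one_mem' := fun X' h a => by rw [MonObj.comp_one]; exact MemAt.one a
      inv_mem' := fun hx X' h a => by rw [GrpObj.comp_inv]; exact (hx X' h a).inv }
  obtain ⟨_, _⟩ := SubgrpObj.exists_grpObj Q (fun f x hx => Cond.comp hx f) p hi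
  refine ⟨P, inferInstance, p, inferInstance, hmono, fun X g => (hi X g).symm, ?_⟩
  have key : ∀ (X : Over S') (g : X ⟶ Red.bc q G),
      (∃ x : X ⟶ T, x ≫ t = g) ↔ ∃ x : X ⟶ Red.bc q P, x ≫ (Over.pullback q).map p = g := by
    intro X g
    rw [cond_over hc, hi]
    constructor
    · rintro ⟨x, hx⟩
      exact ⟨bcEquiv q X P x, by rw [← bcEquiv_comp, hx, Equiv.apply_symm_apply]⟩
    · rintro ⟨x, hx⟩
      exact ⟨(bcEquiv q X P).symm x, by rw [← bcEquiv_symm_comp, hx]⟩
  have hm' : Mono ((Over.pullback q).map p) := inferInstance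
  obtain ⟨u, hu⟩ := (key T t).1 ⟨𝟙 _, Category.id_comp _⟩
  obtain ⟨v, hv⟩ := (key (Red.bc q P) ((Over.pullback q).map p)).2 ⟨𝟙 _, Category.id_comp _⟩
  have huv : u ≫ v = 𝟙 _ := by rw [← cancel_mono t, Category.assoc, hv, hu, Category.id_comp]
  have hvu : v ≫ u = 𝟙 _ := by
    rw [← cancel_mono ((Over.pullback q).map p), Category.assoc, hu, hv, Category.id_comp]
  let e : T ≅ Red.bc q P := ⟨u, v, huv, hvu⟩
  have hmon : IsMonHom u := Pts.isMonHom_of_points u fun X x y => by
    rw [← cancel_mono ((Over.pullback q).map p)]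
    simp only [Category.assoc, hu, MonObj.mul_comp]
  have : IsMonHom e.hom := hmon
  exact ⟨Grp.mkIso' e, hu⟩

/-- **Descent of maximal tori** along flat surjective quasi-compact morphisms. -/
theorem exists_maximalTorus [Flat q] [Surjective q] [QuasiCompact q] [GrpObj G] [GrpObj T] (t : T ⟶ Red.bc q G)
    (ht : Red.IsMaximalTorus t) (hc : Compat t) :
    ∃ (P : Over S) (_ : GrpObj P) (p : P ⟶ G), Red.IsMaximalTorus p ∧
      (∀ (X : Over S) (g : X ⟶ G), (∃ x, x ≫ p = g) ↔ Cond t X g) := by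
  have h1 := ht.1
  have h2 := ht.2.1
  have h3 := TorusAlgClosed.isAffineHom_of_isTorus ht.2.2.1
  obtain ⟨P, _, p, hp, hm, hP, e, he⟩ := exists_subgroup t hc
  refine ⟨P, inferInstance, p, ?_, hP⟩
  refine MTGeom.isMaximalTorus_of_fpqcCover q (MTGeom.qc_cover_of_quasiCompact q) p hp hm ?_
  refine AlgBc.isMaximalTorus_of_arrow e (Iso.refl _) ?_ ht
  rw [he]
  exact Category.comp_id _

end Groth.Agent.Sga3.H797.FpqcSub
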