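import Groth.Agent.Sga3.H797.Rigid
import Groth.Agent.Sga3.H797.FpqcSub
import Groth.Agent.Sga3.H665.TorBcNA
import Groth.Agent.Sga3.H798.MaxTorCent
import Groth.Agent.Sga3.H828.MTDesc

/-!
# Maximal tori rigidified by their torsion

`f : S' ⟶ S`, `G` over `S`, `t : T ⟶ bc f G`, `φ : Γ → G(S')`. `Good n φ t` : `t` is a split maximal torus, `n`-rigid,
whose `n`-torsion points are locally the `φ γ`.

* `Good.exists_bc`, `Good.conj`, `Good.reindex` : operations.
* `Good.unique` : `t` is determined by `φ`.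
-/

set_option autoImplicit false
universe u
open CategoryTheory MonoidalCategory CartesianMonoidalCategory MonObj GrpObj AlgebraicGeometry Limits

namespace Groth.Agent.Sga3.H797.Good

open Groth.Agent.Sga3B Groth.Agent.Sga3B.BcPts Groth.Agent.Sga3B.MT Groth.Agent.Sga3B.RedIso
  Groth.Agent.Sga3.H828 TorsNhd Rigid

variable {S S' S'' : Scheme.{u}} {f : S' ⟶ S} {G : Over S} {T : Over S'}

/-- the open subscheme `U` of `X` as an object over `S` -/
abbrev res (X : Over S) (U : X.left.Opens) : Over.mk (U.ι ≫ X.hom) ⟶ X := Over.homMk U.ι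

/-- Equality of morphisms is Zariski local. -/
lemma hom_ext_local {X Y : Over S} {a b : X ⟶ Y}
    (h : ∀ x : X.left, ∃ U : X.left.Opens, x ∈ U ∧ res X U ≫ a = res X U ≫ b) : a = b := by
  choose U hU e using h
  ext1
  let 𝒰 : Scheme.OpenCover.{u} X.left := X.left.openCoverOfIsOpenCover U (by
    rw [TopologicalSpace.IsOpenCover, eq_top_iff]
    intro x _
    exact TopologicalSpace.Opens.mem_iSup.mpr ⟨x, hU x⟩)
  refine Scheme.Cover.hom_ext 𝒰 _ _ fun x => ?_
  exact congrArg CommaMorphism.left (e x)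

/-- `MemAt` is Zariski local. -/
lemma memAt_local (t : T ⟶ Red.bc f G) [Mono t] {X : Over S} (a : X ⟶ Over.mk f) (g : X ⟶ G)
    (h : ∀ x : X.left, ∃ U : X.left.Opens, x ∈ U ∧ MemAt t (res X U ≫ a) (res X U ≫ g)) : MemAt t a g := by
  choose U hU e using h
  let 𝒰 : Scheme.OpenCover.{u} X.left := X.left.openCoverOfIsOpenCover U (by
    rw [TopologicalSpace.IsOpenCover, eq_top_iff]
    intro x _
    exact TopologicalSpace.Opens.mem_iSup.mpr ⟨x, hU x⟩)
  exact MemAt.of_cover a g 𝒰 fun x => e x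

variable [GrpObj G] [GrpObj T]

/-- A maximal torus rigidified by its torsion. -/
structure Good {Γ : Type} (n : ℕ) (φ : Γ → (Over.mk f ⟶ G)) (t : T ⟶ Red.bc f G) : Prop where
  max : Red.IsMaximalTorus t
  split : ∃ r : ℕ, Red.IsSplitTorusWith (Fin r → ℤ) T
  rigid : IsRigid t n
  mem : ∀ γ, MemAt t (𝟙 _) (φ γ)
  pow : ∀ γ, φ γ ^ n = 1
  gen : ∀ (X : Over S) (a : X ⟶ Over.mk f) (g : X ⟶ G), MemAt t a g → g ^ n = 1 →
    ∀ x : X.left, ∃ U : X.left.Opens, x ∈ U ∧ ∃ γ, res X U ≫ g = res X U ≫ a ≫ φ γ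

namespace Good

variable {Γ : Type} {n : ℕ} {φ : Γ → (Over.mk f ⟶ G)} {t : T ⟶ Red.bc f G}

lemma memAt (h : Good n φ t) {X : Over S} (a : X ⟶ Over.mk f) (γ : Γ) : MemAt t a (a ≫ φ γ) := by
  have := (h.mem γ).comp a
  rwa [Category.comp_id] at this

/-- reindexing -/
lemma reindex (h : Good n φ t) {Γ' : Type} (e : Γ' → Γ) (he : Function.Surjective e) :
    Good n (fun γ => φ (e γ)) t where
  max := h.max
  split := h.split
  rigid := h.rigid
  mem γ := h.mem _
  pow γ := h.pow _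
  gen X a g hg hn x := by
    obtain ⟨U, hU, γ, hγ⟩ := h.gen X a g hg hn x
    obtain ⟨γ', rfl⟩ := he γ
    exact ⟨U, hU, γ', hγ⟩

/-- conjugation -/
lemma conj (h : Good n φ t) (c : Over.mk f ⟶ G) : Good n (fun γ => c * φ γ * c⁻¹) (t ≫ cj c) where
  max := isMaximalTorus_comp_cj c t h.max
  split := h.split
  rigid := by
    have : IsMonHom (cjIso c).hom := isMonHom_cj c
    have : IsMonHom (Iso.refl T).hom := inferInstanceAs (IsMonHom (𝟙 T))
    refine isRigid_of_iso (Iso.refl T) (cjIso c) ?_ h.rigid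
    exact Category.id_comp _
  mem γ := by
    rw [memAt_comp_cj]
    have e : (𝟙 (Over.mk f) ≫ c)⁻¹ * (c * φ γ * c⁻¹) * (𝟙 (Over.mk f) ≫ c) = φ γ := by
      rw [Category.id_comp]
      group
    rw [e]
    exact h.mem γ
  pow γ := by
    rw [conj_pow, h.pow, _root_.mul_one, mul_inv_cancel]
  gen X a g hg hn x := by
    rw [memAt_comp_cj] at hg
    obtain ⟨U, hU, γ, hγ⟩ := h.gen X a _ hg (by
      have e : (a ≫ c)⁻¹ * g * (a ≫ c) = (a ≫ c)⁻¹ * g * ((a ≫ c)⁻¹)⁻¹ := by rw [_root_.inv_inv]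
      rw [e, conj_pow, hn, _root_.mul_one, mul_inv_cancel]) x
    refine ⟨U, hU, γ, ?_⟩
    rw [MonObj.comp_mul, MonObj.comp_mul, GrpObj.comp_inv] at hγ
    rw [MonObj.comp_mul, MonObj.comp_mul, GrpObj.comp_inv, MonObj.comp_mul, MonObj.comp_mul, GrpObj.comp_inv, ← hγ]
    group

lemma isMaximalTorus_bcSub [LocallyOfFiniteType G.hom] (q : S'' ⟶ S') (h : Red.IsMaximalTorus t) :
    Red.IsMaximalTorus (bcSub q t) := by
  rw [MTDesc.isMaximalTorus_bcSub_iff]
  have : LocallyOfFiniteType (Red.bc f G).hom := inferInstanceAs (LocallyOfFiniteType (pullback.snd G.hom f))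
  exact Groth.Agent.Sga3.H665.TorBcNA.isMaximalTorus_bc q h

lemma isRigid_bcSub (q : S'' ⟶ S') (h : IsRigid t n) : IsRigid (bcSub q t) n := by
  have h1 : IsMonHom (und (BcIso.bcCompIso q f G).symm).hom := inferInstance
  have h2 : IsMonHom (Iso.refl (Red.bc q T)).hom := inferInstanceAs (IsMonHom (𝟙 (Red.bc q T)))
  refine isRigid_of_iso (Iso.refl _) (und (BcIso.bcCompIso q f G).symm) ?_ (isRigid_bc q h)
  rw [MTDesc.und_bcCompIso_symm]
  exact Category.id_comp _

/-- base change -/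
theorem exists_bc [LocallyOfFiniteType G.hom] (h : Good n φ t) (w : S'' ⟶ S) (a : S'' ⟶ S') (e : a ≫ f = w) :
    ∃ (T' : Over S'') (_ : GrpObj T') (t' : T' ⟶ Red.bc w G),
      Good n (fun γ => (Over.homMk a e : Over.mk w ⟶ Over.mk f) ≫ φ γ) t' ∧
        ∀ (X : Over S) (b : X ⟶ Over.mk w) (g : X ⟶ G),
          MemAt t' b g ↔ MemAt t (b ≫ (Over.homMk a e : Over.mk w ⟶ Over.mk f)) g := by
  subst e
  refine ⟨Red.bc a T, inferInstance, bcSub a t, ?_, fun X b g => memAt_bcSub a t b g⟩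
  refine ⟨isMaximalTorus_bcSub a h.max, ?_, isRigid_bcSub a h.rigid, fun γ => ?_, fun γ => ?_,
    fun X b g hg hn x => ?_⟩
  · obtain ⟨r, hr⟩ := h.split
    exact ⟨r, TorusAlgClosed.isSplitTorusWith_bc a hr⟩
  · rw [memAt_bcSub, Category.id_comp]
    exact h.memAt _ γ
  · rw [← MonObj.comp_pow, h.pow, MonObj.comp_one]
  · obtain ⟨U, hU, γ, hγ⟩ := h.gen X _ g ((memAt_bcSub a t b g).1 hg) hn x
    refine ⟨U, hU, γ, hγ.trans ?_⟩
    rw [Category.assoc]
    rfl

/-- **Uniqueness.** -/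
theorem unique [IsSeparated G.hom] [LocallyOfFiniteType G.hom] (h : Good n φ t) {R : Over S'} [GrpObj R]
    {j : R ⟶ Red.bc f G} (hj : Good n φ j) {X : Over S} (a : X ⟶ Over.mk f) (g : X ⟶ G) (hg : MemAt t a g) :
    MemAt j a g := by
  have h1 := h.max.1
  have h2 := h.max.2.1
  have h3 := hj.max.1
  have h4 := hj.max.2.1
  have : LocallyOfFiniteType (Red.bc f G).hom := inferInstanceAs (LocallyOfFiniteType (pullback.snd G.hom f))
  have : IsSeparated (Red.bc f G).hom := inferInstanceAs (IsSeparated (pullback.snd G.hom f))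
  obtain ⟨r, hr⟩ := h.split
  have hcomm := comm_of_rigid t j h.max.2.2.1 hr hj.max.2.2.1 h.rigid (fun X y z hz => ?_)
  · obtain ⟨ψ, hψ⟩ := Groth.Agent.Sga3.H798.MaxTorCent.exists_iso_of_comm j hj.max t h.max
      (fun X r z => hcomm X r z)
    obtain ⟨x, hx⟩ := (memAt_iff t a g).1 hg
    refine (memAt_iff j a g).2 ⟨x ≫ ψ.hom, ?_⟩
    rw [Category.assoc, hψ, hx]
  · -- `z` is locally a point of `j`
    let g' : (Over.map f).obj X ⟶ G := (bcEquiv f X G).symm (z ≫ t)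
    have hg1 : MemAt t (MemAt.strHom f X) g' := (MemAt.iff_of_over t X (z ≫ t)).2 ⟨z, rfl⟩
    have hg2 : MemAt j (MemAt.strHom f X) g' := by
      refine memAt_local j _ _ fun x => ?_
      obtain ⟨U, hU, γ, hγ⟩ := h.gen _ _ g' hg1 (by
        have e : (z ≫ t) ^ n = 1 := by rw [← comp_pow', hz, MonObj.one_comp]
        have e3 : bcMulEquiv f X G g' = z ≫ t := (bcEquiv f X G).apply_symm_apply _
        apply (bcMulEquiv f X G).injective
        rw [map_pow, e3, e, map_one]) x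
      refine ⟨U, hU, ?_⟩
      rw [hγ, ← Category.assoc]
      exact hj.memAt _ γ
    obtain ⟨y', hy'⟩ := (MemAt.iff_of_over j X (z ≫ t)).1 hg2
    rw [← hy', ← MonObj.mul_comp, ← MonObj.mul_comp, MaxTorNear900.mul_comm_of_isTorus hj.max.2.2.1]

end Good

end Groth.Agent.Sga3.H797.Good
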