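import Groth.Agent.Sga3.H797.Good
import Groth.Agent.Sga3.H795.DisjGrp

/-!
# Descent of maximal tori rigidified by their torsion

`q : ∐ X_j ⟶ E` flat, surjective, quasi-compact, `u : E ⟶ S`, `υ : Γ → G(E)`; over each `X_j` there is a maximal torus
which is `Good` for `υ`. Then there is a maximal torus over `E`.
-/

set_option autoImplicit false
universe u
open CategoryTheory MonoidalCategory CartesianMonoidalCategory MonObj GrpObj AlgebraicGeometry Limits

namespace Groth.Agent.Sga3.H797.DescFam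

open Groth.Agent.Sga3B Groth.Agent.Sga3B.BcPts Groth.Agent.Sga3B.MT Groth.Agent.Sga3B.RedIso
  Groth.Agent.Sga3.H828 TorsNhd Rigid Good

section ov

variable {S E Y : Scheme.{u}} {G : Over S} {T : Over Y}

lemma bcEquiv_symm_left (u : E ⟶ S) (X : Over E) (g : X ⟶ Red.bc u G) :
    ((bcEquiv u X G).symm g).left = g.left ≫ pullback.fst G.hom u := by
  simp [bcEquiv, Adjunction.homEquiv_counit]

/-- `t` as a morphism to the iterated base change -/
noncomputable def undo (q : Y ⟶ E) (u : E ⟶ S) (t : T ⟶ Red.bc (q ≫ u) G) : T ⟶ Red.bc q (Red.bc u G) :=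
  t ≫ (Over.pullbackComp q u).hom.app G

lemma memAt_und (q : Y ⟶ E) (u : E ⟶ S) (t : T ⟶ Red.bc (q ≫ u) G) {X : Over E} (a : X ⟶ Over.mk q)
    (g : X ⟶ Red.bc u G) (a' : (Over.map u).obj X ⟶ Over.mk (q ≫ u)) (ha : a'.left = a.left) :
    MemAt (undo q u t) a g ↔ MemAt t a' ((bcEquiv u X G).symm g) := by
  rw [memAt_iff', memAt_iff', bcEquiv_symm_left, ha]
  have key : ∀ x : X.left ⟶ T.left, x ≫ T.hom = a.left →
      (x ≫ (undo q u t).left ≫ pullback.fst (Red.bc u G).hom q = g.left ↔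
        x ≫ t.left ≫ pullback.fst G.hom (q ≫ u) = g.left ≫ pullback.fst G.hom u) := by
    intro x hx
    have e1 : (undo q u t).left ≫ pullback.fst (Red.bc u G).hom q ≫
        pullback.fst G.hom u = t.left ≫ pullback.fst G.hom (q ≫ u) := by
      rw [← pullbackComp_hom_fst, undo, Over.comp_left, Category.assoc]
      rfl
    have e2 : (undo q u t).left ≫ pullback.fst (Red.bc u G).hom q ≫
        pullback.snd G.hom u = T.hom ≫ q := by
      have h1 := Over.w (undo q u t)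
      have h2 : pullback.fst (Red.bc u G).hom q ≫ pullback.snd G.hom u =
        pullback.snd (Red.bc u G).hom q ≫ q := pullback.condition
      rw [h2, ← h1, Category.assoc]
      rfl
    constructor
    · intro h
      rw [← e1, ← h]
      simp only [Category.assoc]
    · intro h
      apply pullback.hom_ext
      · rw [← h, ← e1]
        simp only [Category.assoc]
      · have h3 : g.left ≫ pullback.snd G.hom u = X.hom := Over.w g
        have h4 : a.left ≫ q = X.hom := Over.w a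
        rw [h3, ← h4, ← hx, Category.assoc, Category.assoc, Category.assoc]
        exact congrArg (x ≫ ·) e2
  exact exists_congr fun x => and_congr_right fun hx => key x hx

/-- Descent of maximal tori, everything over `S`. -/
theorem exists_maximalTorus_over [GrpObj G] [GrpObj T] (q : Y ⟶ E) [Flat q] [Surjective q] [QuasiCompact q]
    (u : E ⟶ S) (t : T ⟶ Red.bc (q ≫ u) G) (ht : Red.IsMaximalTorus t)
    (hc : ∀ (X : Over S) (a b : X ⟶ Over.mk (q ≫ u)) (g : X ⟶ G), a.left ≫ q = b.left ≫ q →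
      MemAt t a g → MemAt t b g) :
    ∃ (P : Over E) (_ : GrpObj P) (p : P ⟶ Red.bc u G), Red.IsMaximalTorus p := by
  have ht' : Red.IsMaximalTorus (undo q u t) := by
    refine AlgBc.isMaximalTorus_of_arrow (Iso.refl _) (BcIso.bcCompIso q u G) ?_ ht
    rw [BcNat.und_bcCompIso]
    exact (Category.id_comp _).symm
  obtain ⟨P, i1, p, hp, -⟩ := FpqcSub.exists_maximalTorus (undo q u t) ht'
    (fun X a b g hg => by
      have ea : a.left ≫ q ≫ u = ((Over.map u).obj X).hom := by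
        rw [← Category.assoc]
        exact congrArg (· ≫ u) (Over.w a)
      have eb : b.left ≫ q ≫ u = ((Over.map u).obj X).hom := by
        rw [← Category.assoc]
        exact congrArg (· ≫ u) (Over.w b)
      let a' : (Over.map u).obj X ⟶ Over.mk (q ≫ u) := Over.homMk a.left ea
      let b' : (Over.map u).obj X ⟶ Over.mk (q ≫ u) := Over.homMk b.left eb
      rw [memAt_und q u t a g a' rfl] at hg
      rw [memAt_und q u t b g b' rfl]
      exact hc _ a' b' _ ((Over.w a).trans (Over.w b).symm) hg)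
  exact ⟨P, i1, p, hp⟩

end ov

section sigma

open Groth.Agent.Sga3.H795.DisjGrp Groth.Agent.Sga3C

variable {J : Type u} {X : J → Scheme.{u}} {S : Scheme.{u}} {G : Over S} [GrpObj G] {T : ∀ j, Over (X j)}
  [∀ j, GrpObj (T j)]

/-- Maximal tori over disjoint unions, with a description of their points. -/
theorem exists_sigma (w : (∐ X) ⟶ S) (t : ∀ j, T j ⟶ Red.bc (Sigma.ι X j ≫ w) G)
    (h : ∀ j, Red.IsMaximalTorus (t j)) :
    ∃ (P : Over (∐ X)) (_ : GrpObj P) (p : P ⟶ Red.bc w G), Red.IsMaximalTorus p ∧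
      ∀ (j : J) (Z : Over S) (a : Z ⟶ Over.mk (Sigma.ι X j ≫ w)) (g : Z ⟶ G),
        MemAt p (a ≫ ovq (Sigma.ι X j) w) g ↔ MemAt (t j) a g := by
  let t' : ∀ j, T j ⟶ Red.bc (Sigma.ι X j) (Red.bc w G) := fun j =>
    t j ≫ (und (BcIso.bcCompIso (Sigma.ι X j) w G)).hom
  have h1' : ∀ j, IsMonHom (t' j) := fun j => by
    have := (h j).1
    exact inferInstanceAs (IsMonHom (t j ≫ (und (BcIso.bcCompIso (Sigma.ι X j) w G)).hom))
  have h2' : ∀ j, Mono (t' j) := fun j => by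
    have := (h j).2.1
    exact inferInstanceAs (Mono (t j ≫ (und (BcIso.bcCompIso (Sigma.ι X j) w G)).hom))
  obtain ⟨P, i1, p, hp1, hp2, hp3⟩ := exists_subgroup t'
  refine ⟨P, i1, p, MT.isMaximalTorus_of_family (fun j => Sigma.ι X j) (fun j => inferInstance) (fun s => ?_) p
    hp1 hp2 fun j => ?_, fun j Z a g => ?_⟩
  · obtain ⟨⟨j, y⟩, rfl⟩ := (sigmaMk X).surjective s
    exact ⟨j, y, (sigmaMk_mk _ _ _).symm⟩
  · obtain ⟨e, he⟩ := hp3 j
    exact AlgBc.isMaximalTorus_of_arrow e (BcIso.bcCompIso (Sigma.ι X j) w G) he.symm (h j)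
  · obtain ⟨e, he⟩ := hp3 j
    rw [← memAt_bcSub]
    have he' : (und e).hom ≫ bcSub (Sigma.ι X j) p = t j := by
      have h3 : (Over.pullbackComp (Sigma.ι X j) w).hom.app G ≫ (Over.pullbackComp (Sigma.ι X j) w).inv.app G =
        𝟙 _ := by simp
      change (und e).hom ≫ (Over.pullback (Sigma.ι X j)).map p ≫ (Over.pullbackComp (Sigma.ι X j) w).inv.app G = _
      rw [← Category.assoc, he]
      change (t j ≫ (und (BcIso.bcCompIso (Sigma.ι X j) w G)).hom) ≫ _ = _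
      rw [BcNat.und_bcCompIso, Category.assoc, h3]
      exact Category.comp_id _
    constructor
    · rintro ⟨x, hx⟩
      refine ⟨x ≫ (und e).inv, ?_⟩
      rw [← he', Category.assoc, Iso.inv_hom_id_assoc]
      exact hx
    · rintro ⟨x, hx⟩
      refine ⟨x ≫ (und e).hom, ?_⟩
      rw [← he'] at hx
      rw [Category.assoc]
      exact hx

variable [IsSeparated G.hom] [LocallyOfFiniteType G.hom]

omit [GrpObj G] [IsSeparated G.hom] [LocallyOfFiniteType G.hom] in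
/-- auxiliary -/
lemma self_homMk {S' : Scheme.{u}} {f : S' ⟶ S} {Z : Over S} (a : Z ⟶ Over.mk f) :
    (Over.homMk (𝟙 Z.left) (Category.id_comp _) : Z ⟶ Over.mk Z.hom) ≫
      (Over.homMk a.left (Over.w a) : Over.mk Z.hom ⟶ Over.mk f) = a := by
  ext1
  exact Category.id_comp _

/-- Uniqueness, for tori over different bases. -/
theorem cross {S₁ S₂ : Scheme.{u}} {f₁ : S₁ ⟶ S} {f₂ : S₂ ⟶ S} {T₁ : Over S₁} {T₂ : Over S₂} [GrpObj T₁]
    [GrpObj T₂] {t₁ : T₁ ⟶ Red.bc f₁ G} {t₂ : T₂ ⟶ Red.bc f₂ G} {Γ : Type} {n : ℕ}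
    {φ₁ : Γ → (Over.mk f₁ ⟶ G)} {φ₂ : Γ → (Over.mk f₂ ⟶ G)} (h₁ : Good n φ₁ t₁) (h₂ : Good n φ₂ t₂)
    {Z : Over S} (a : Z ⟶ Over.mk f₁) (b : Z ⟶ Over.mk f₂) (e : ∀ γ, a ≫ φ₁ γ = b ≫ φ₂ γ) (g : Z ⟶ G)
    (hg : MemAt t₁ a g) : MemAt t₂ b g := by
  obtain ⟨T₁', _, t₁', H₁, K₁⟩ := h₁.exists_bc Z.hom a.left (Over.w a)
  obtain ⟨T₂', _, t₂', H₂, K₂⟩ := h₂.exists_bc Z.hom b.left (Over.w b)
  have e' : (fun γ => (Over.homMk a.left (Over.w a) : Over.mk Z.hom ⟶ Over.mk f₁) ≫ φ₁ γ) =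
      fun γ => (Over.homMk b.left (Over.w b) : Over.mk Z.hom ⟶ Over.mk f₂) ≫ φ₂ γ := by
    funext γ
    let i : Over.mk Z.hom ⟶ Z := Over.homMk (𝟙 Z.left) (Category.id_comp _)
    have ea : (Over.homMk a.left (Over.w a) : Over.mk Z.hom ⟶ Over.mk f₁) = i ≫ a := by
      ext1
      exact (Category.id_comp _).symm
    have eb : (Over.homMk b.left (Over.w b) : Over.mk Z.hom ⟶ Over.mk f₂) = i ≫ b := by
      ext1
      exact (Category.id_comp _).symm
    rw [ea, eb, Category.assoc, Category.assoc, e]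
  rw [e'] at H₁
  have h3 := H₁.unique H₂ (Over.homMk (𝟙 Z.left) (Category.id_comp _)) g ((K₁ _ _ _).2 (by
    rw [self_homMk]
    exact hg))
  rw [K₂, self_homMk] at h3
  exact h3

/-- a morphism from an open subscheme, landing in the range of an open immersion -/
lemma exists_lift_open {W Y Z : Scheme.{u}} (i : W ⟶ Y) [IsOpenImmersion i] (g : Z ⟶ Y)
    (h : ∀ z, g z ∈ i.opensRange) : ∃ g' : Z ⟶ W, g' ≫ i = g := by
  refine ⟨IsOpenImmersion.lift i g ?_, IsOpenImmersion.lift_fac _ _ _⟩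
  rintro _ ⟨z, rfl⟩
  exact h z

/-- **Descent.** -/
theorem exists_maximalTorus {E : Scheme.{u}} (q : (∐ X) ⟶ E) [Flat q] [Surjective q] [QuasiCompact q] (u : E ⟶ S)
    {Γ : Type} {n : ℕ} (υ : Γ → (Over.mk u ⟶ G)) (t : ∀ j, T j ⟶ Red.bc (Sigma.ι X j ≫ q ≫ u) G)
    (h : ∀ j, Good n (fun γ => (Over.homMk (Sigma.ι X j ≫ q) (Category.assoc _ _ _) :
      Over.mk (Sigma.ι X j ≫ q ≫ u) ⟶ Over.mk u) ≫ υ γ) (t j)) :
    ∃ (P : Over E) (_ : GrpObj P) (p : P ⟶ Red.bc u G), Red.IsMaximalTorus p := by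
  obtain ⟨P, _, p, hp, hpm⟩ := exists_sigma (q ≫ u) t (fun j => (h j).max)
  refine exists_maximalTorus_over q u p hp fun Z a b g hab hg => ?_
  have hmono : Mono p := hp.2.1
  refine memAt_local p b g fun z => ?_
  obtain ⟨⟨i, y⟩, hy⟩ := (sigmaMk X).surjective (a.left z)
  obtain ⟨⟨j, y'⟩, hy'⟩ := (sigmaMk X).surjective (b.left z)
  let U : Z.left.Opens := a.left ⁻¹ᵁ (Sigma.ι X i).opensRange ⊓ b.left ⁻¹ᵁ (Sigma.ι X j).opensRange
  have hU : z ∈ U := ⟨⟨y, by rw [← hy]; exact (sigmaMk_mk _ _ _).symm⟩, ⟨y', by rw [← hy']; exact (sigmaMk_mk _ _ _).symm⟩⟩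
  obtain ⟨a₁, ha₁⟩ := exists_lift_open (Sigma.ι X i) (U.ι ≫ a.left) (fun z => by
    have := z.2.1
    exact this)
  obtain ⟨b₁, hb₁⟩ := exists_lift_open (Sigma.ι X j) (U.ι ≫ b.left) (fun z => by
    have := z.2.2
    exact this)
  let a₂ : Over.mk (U.ι ≫ Z.hom) ⟶ Over.mk (Sigma.ι X i ≫ q ≫ u) := Over.homMk a₁ (by
    change a₁ ≫ Sigma.ι X i ≫ q ≫ u = U.ι ≫ Z.hom
    rw [← Category.assoc, ha₁, Category.assoc]
    exact congrArg (U.ι ≫ ·) (Over.w a))
  let b₂ : Over.mk (U.ι ≫ Z.hom) ⟶ Over.mk (Sigma.ι X j ≫ q ≫ u) := Over.homMk b₁ (by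
    change b₁ ≫ Sigma.ι X j ≫ q ≫ u = U.ι ≫ Z.hom
    rw [← Category.assoc, hb₁, Category.assoc]
    exact congrArg (U.ι ≫ ·) (Over.w b))
  have ea : a₂ ≫ ovq (Sigma.ι X i) (q ≫ u) = res Z U ≫ a := by
    ext1
    exact ha₁
  have eb : b₂ ≫ ovq (Sigma.ι X j) (q ≫ u) = res Z U ≫ b := by
    ext1
    exact hb₁
  refine ⟨U, hU, ?_⟩
  rw [← eb, hpm]
  refine cross (h i) (h j) a₂ b₂ (fun γ => ?_) _ ?_
  · have e : a₂ ≫ (Over.homMk (Sigma.ι X i ≫ q) (Category.assoc _ _ _) :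
        Over.mk (Sigma.ι X i ≫ q ≫ u) ⟶ Over.mk u) = b₂ ≫ (Over.homMk (Sigma.ι X j ≫ q)
          (Category.assoc _ _ _) : Over.mk (Sigma.ι X j ≫ q ≫ u) ⟶ Over.mk u) := by
      ext1
      change a₁ ≫ Sigma.ι X i ≫ q = b₁ ≫ Sigma.ι X j ≫ q
      rw [← Category.assoc, ← Category.assoc, ha₁, hb₁, Category.assoc, Category.assoc, hab]
    exact (Category.assoc _ _ _).symm.trans ((congrArg (· ≫ υ γ) e).trans (Category.assoc _ _ _))
  · rw [← hpm, ea]
    exact hg.comp _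

end sigma

end Groth.Agent.Sga3.H797.DescFam
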