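import Groth.Agent.Sga3.H797.Good
import Groth.Agent.Sga3.H797.HomFin
import Groth.Agent.Sga3.H518.TorsSplit

/-!
# Framing the torsion of a split maximal torus

* `exists_frame` : a split maximal torus, `n`-rigid, over `Spec B'` with enough `n`-th roots of unity is `Good`.
* `exists_good` : a split maximal torus over `Spec B`, `n`-rigid with `n` invertible, becomes `Good` over a finite free
  faithfully flat extension.
-/

set_option autoImplicit false
universe u
open CategoryTheory MonoidalCategory CartesianMonoidalCategory MonObj GrpObj AlgebraicGeometry Limits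

namespace Groth.Agent.Sga3.H797.Frame

open Groth.Agent.Sga3B Groth.Agent.Sga3B.BcPts Groth.Agent.Sga3B.MT Groth.Agent.Sga3B.RedIso
  Groth.Agent.Sga3.H828 TorsNhd Rigid Good HomFin

variable {S Y : Scheme.{u}} {f : Y ⟶ S} {G : Over S}

/-- `bcPt a` is injective. -/
lemma bcPt_injective {X : Over S} (a : X ⟶ Over.mk f) {g g' : X ⟶ G} (h : bcPt a g = bcPt a g') : g = g' := by
  ext1
  rw [← bcPt_left_fst a g, ← bcPt_left_fst a g', h]

variable [GrpObj G]

lemma bcPt_pow {X : Over S} (a : X ⟶ Over.mk f) (g : X ⟶ G) (n : ℕ) : bcPt a (g ^ n) = bcPt a g ^ n := by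
  induction n with
  | zero => rw [pow_zero, pow_zero, bcPt_one]
  | succ n hn => rw [pow_succ, pow_succ, bcPt_mul, hn]

/-- `Y` over `S` as the image of the unit object over `Y` -/
noncomputable def unitIso (f : Y ⟶ S) : Over.mk f ≅ (Over.map f).obj (𝟙_ (Over Y)) :=
  Over.isoMk (Iso.refl _) (by
    change 𝟙 _ ≫ 𝟙 _ ≫ f = f
    rw [Category.id_comp, Category.id_comp])

/-- points over `Y` of `bc f G` are points of `G` on `Y` over `S` -/
noncomputable def pt (p : 𝟙_ (Over Y) ⟶ Red.bc f G) : Over.mk f ⟶ G :=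
  (unitIso f).hom ≫ (bcEquiv f _ G).symm p

lemma pt_mul (p q : 𝟙_ (Over Y) ⟶ Red.bc f G) : pt (p * q) = pt p * pt q := by
  have h : (bcEquiv f (𝟙_ (Over Y)) G).symm (p * q) =
      (bcEquiv f (𝟙_ (Over Y)) G).symm p * (bcEquiv f (𝟙_ (Over Y)) G).symm q :=
    map_mul (bcMulEquiv f (𝟙_ (Over Y)) G).symm p q
  rw [pt, pt, pt, h, MonObj.comp_mul]

lemma pt_one : pt (1 : 𝟙_ (Over Y) ⟶ Red.bc f G) = 1 := by
  have h : (bcEquiv f (𝟙_ (Over Y)) G).symm 1 = 1 := map_one (bcMulEquiv f (𝟙_ (Over Y)) G).symm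
  rw [pt, h, MonObj.comp_one]

omit [GrpObj G] in
lemma bcPt_pt {X : Over S} (a : X ⟶ Over.mk f) (p : 𝟙_ (Over Y) ⟶ Red.bc f G) :
    bcPt a (a ≫ pt p) = toUnit (Over.mk a.left) ≫ p := by
  have e : (overIso a).hom ≫ a ≫ (unitIso f).hom = (Over.map f).map (toUnit (Over.mk a.left)) := by
    ext1
    have h1 : (toUnit (Over.mk a.left)).left = a.left := by
      have := Over.w (toUnit (Over.mk a.left))
      exact (Category.comp_id _).symm.trans this
    change 𝟙 _ ≫ a.left ≫ 𝟙 _ = (toUnit (Over.mk a.left)).left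
    rw [h1, Category.id_comp, Category.comp_id]
  rw [bcPt, pt, reassoc_of% e]
  apply (bcEquiv f (Over.mk a.left) G).symm.injective
  rw [Equiv.symm_apply_apply]
  exact (comp_bcEquiv_symm f (toUnit _) p).symm

lemma pow_und {T D : Over Y} [GrpObj T] [GrpObj D] (e : Grp.mk T ≅ Grp.mk D) {X : Over Y} (y : X ⟶ T) (n : ℕ)
    (h : y ^ n = 1) : (y ≫ (und e).hom) ^ n = 1 := by
  rw [← comp_pow', h, MonObj.one_comp]

section frame

variable {T : Over Y} [GrpObj T] {r n : ℕ}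

/-- **Framing.** -/
theorem exists_frame (hsp : Red.IsSplitTorusWith (Fin r → ℤ) T) (t : T ⟶ Red.bc f G)
    (ht : Red.IsMaximalTorus t) (hr : IsRigid t n)
    (ψ : Multiplicative (Fin r → ZMod n) →* (𝟙_ (Over Y) ⟶ Red.DS Y (Fin r → ℤ)))
    (hψ1 : ∀ (X : Over Y) (t : X ⟶ Red.DS _ (Fin r → ℤ)), t ^ n = 1 →
        ∀ x : X.left, ∃ (V : X.left.Opens) (γ : Multiplicative (Fin r → ZMod n)), x ∈ V ∧
          (Over.homMk V.ι rfl : Over.mk (V.ι ≫ X.hom) ⟶ X) ≫ t =
            toUnit (Over.mk (V.ι ≫ X.hom)) ≫ ψ γ)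
    (hψ2 : ∀ (X : Over Y) [Nonempty X.left] (γ : Multiplicative (Fin r → ZMod n)), toUnit X ≫ ψ γ = 1 → γ = 1) :
    ∃ φ : Multiplicative (Fin r → ZMod n) →* (Over.mk f ⟶ G), Good n φ t ∧
      ∀ (X : Over S) [Nonempty X.left] (a : X ⟶ Over.mk f), Function.Injective (fun γ => a ≫ φ γ) := by
  obtain ⟨e⟩ := hsp
  have h1 := ht.1
  have h2 := ht.2.1
  -- the sections of `T`
  let ψ' : Multiplicative (Fin r → ZMod n) → (𝟙_ (Over Y) ⟶ T) := fun γ => ψ γ ≫ (und e).inv
  have hψ' : ∀ γ γ', ψ' (γ * γ') = ψ' γ * ψ' γ' := fun γ γ' => by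
    simp only [ψ']
    rw [map_mul, MonObj.mul_comp]
  have hψe : ∀ γ, ψ' γ ≫ (und e).hom = ψ γ := fun γ => by
    simp only [ψ', Category.assoc, Iso.inv_hom_id, Category.comp_id]
  let φ : Multiplicative (Fin r → ZMod n) →* (Over.mk f ⟶ G) :=
    MonoidHom.mk' (fun γ => pt (ψ' γ ≫ t)) (fun γ γ' => by rw [hψ', MonObj.mul_comp, pt_mul])
  have key : ∀ {X : Over S} (a : X ⟶ Over.mk f) (γ), bcPt a (a ≫ φ γ) = toUnit (Over.mk a.left) ≫ ψ' γ ≫ t :=
    fun a γ => bcPt_pt a _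
  refine ⟨φ, ⟨ht, ⟨r, ⟨e⟩⟩, hr, fun γ => ?_, fun γ => ?_, fun X a g hg hn x => ?_⟩, fun X _ a γ γ' h => ?_⟩
  · rw [memAt_iff]
    refine ⟨toUnit _ ≫ ψ' γ, ?_⟩
    have := key (𝟙 (Over.mk f)) γ
    rw [Category.id_comp] at this
    rw [this, Category.assoc]
  · rw [← map_pow]
    have h3 : γ ^ n = 1 := by
      apply Multiplicative.toAdd.injective
      funext i
      rw [toAdd_pow]
      simp
    rw [h3, map_one]
  · obtain ⟨y, hy⟩ := (memAt_iff _ _ _).1 hg
    have hyn : y ^ n = 1 := by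
      rw [← cancel_mono t, comp_pow', hy, ← bcPt_pow, hn, bcPt_one, MonObj.one_comp]
    obtain ⟨V, γ, hxV, hγ⟩ := hψ1 _ (y ≫ (und e).hom) (pow_und e y n hyn) x
    refine ⟨V, hxV, γ, ?_⟩
    have h3 : (Over.homMk V.ι rfl : Over.mk (V.ι ≫ (Over.mk a.left).hom) ⟶ Over.mk a.left) ≫ y =
        toUnit _ ≫ ψ' γ := by
      rw [← cancel_mono (und e).hom, Category.assoc, Category.assoc, hψe]
      exact hγ
    rw [← Category.assoc]
    apply bcPt_injective (res X V ≫ a)
    rw [key, bcPt_comp, ← hy, ← Category.assoc]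
    have h4 := congrArg (· ≫ t) h3
    simp only [Category.assoc] at h4
    rw [Category.assoc]
    ext1
    exact congrArg CommaMorphism.left h4
  · have h3 : toUnit (Over.mk a.left) ≫ ψ' γ = toUnit (Over.mk a.left) ≫ ψ' γ' := by
      have h6 : bcPt a (a ≫ φ γ) = bcPt a (a ≫ φ γ') := congrArg (bcPt a) h
      rw [key, key] at h6
      exact (cancel_mono t).1 ((Category.assoc _ _ _).trans (h6.trans (Category.assoc _ _ _).symm))
    have h4 : toUnit (Over.mk a.left) ≫ ψ γ = toUnit (Over.mk a.left) ≫ ψ γ' := by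
      rw [← hψe, ← hψe, ← Category.assoc, h3, Category.assoc]
    have hne : Nonempty (Over.mk a.left : Over Y).left := ‹Nonempty X.left›
    have h5 := hψ2 (Over.mk a.left) (γ * γ'⁻¹) (by
      rw [map_mul, map_inv, MonObj.comp_mul, GrpObj.comp_inv, h4, mul_inv_cancel])
    exact mul_inv_eq_one.mp h5

end frame

/-- A split maximal torus becomes `Good` over a finite free faithfully flat extension. -/
theorem exists_good [LocallyOfFiniteType G.hom] (r n : ℕ) (hn : 0 < n) (B : Type u) [CommRing B]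
    (hB : IsUnit (n : B)) (f : Spec (CommRingCat.of B) ⟶ S) (t : Red.DS _ (Fin r → ℤ) ⟶ Red.bc f G)
    (ht : Red.IsMaximalTorus t) (hr : IsRigid t n) :
    ∃ (P : Scheme.{u}) (_ : IsAffine P) (p : P ⟶ Spec (CommRingCat.of B)) (_ : Flat p) (_ : Surjective p)
      (T : Over P) (_ : GrpObj T) (t' : T ⟶ Red.bc (p ≫ f) G)
      (φ : Multiplicative (Fin r → ZMod n) →* (Over.mk (p ≫ f) ⟶ G)), Good n φ t' ∧
      ∀ (X : Over S) [Nonempty X.left] (a : X ⟶ Over.mk (p ≫ f)), Function.Injective (fun γ => a ≫ φ γ) := by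
  obtain ⟨B', i1, i2, i3, i4, i5, ψ, h1, h2⟩ := Groth.Agent.Sga3.H518.TorsSplit.exists_torsion r n hn B hB
  let p : Spec (CommRingCat.of B') ⟶ Spec (CommRingCat.of B) := Spec.map (CommRingCat.ofHom (algebraMap B B'))
  have hp1 : Flat p := by
    have h3 : (algebraMap B B').Flat := RingHom.flat_algebraMap_iff.mpr inferInstance
    exact (HasRingHomProperty.Spec_iff (P := @Flat)).mpr h3
  have hp2 : Surjective p := ⟨PrimeSpectrum.comap_surjective_of_faithfullyFlat⟩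
  have hsp : Red.IsSplitTorusWith (Fin r → ℤ) (Red.bc p (Red.DS (Spec (CommRingCat.of B)) (Fin r → ℤ))) :=
    TorusAlgClosed.isSplitTorusWith_bc p ⟨Iso.refl _⟩
  obtain ⟨φ, h5, h6⟩ := exists_frame hsp (bcSub p t) (Good.isMaximalTorus_bcSub p ht) (Good.isRigid_bcSub p hr)
    ψ h1 h2
  exact ⟨_, inferInstance, p, hp1, hp2, _, _, bcSub p t, φ, h5, h6⟩

end Groth.Agent.Sga3.H797.Frame
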