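import Mathlib.GroupTheory.QuotientGroup.Basic
import Mathlib.Algebra.BigOperators.Group.Finset.Basic
import Mathlib.Algebra.Group.Subgroup.Ker
import Mathlib.Algebra.Group.Action.End
import Mathlib.SetTheory.Cardinal.Finite
import Mathlib.Algebra.BigOperators.Finprod
import Mathlib.Algebra.Group.Subgroup.Finite
import Mathlib.Tactic.Group

/-!
# Lifting homomorphisms from a finite group through an extension with uniquely divisible abelian kernel

`π : E →* E'` with commutative kernel `V` on which the `N`-th power map is bijective, `Γ` finite of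
order `N`. Homomorphisms `Γ →* E'` with a set theoretic lift have a homomorphic lift; two lifts are
conjugate under `V`.
-/

set_option autoImplicit false

namespace Groth.Agent.Sga3.H797.GrpExt

open Finset

variable {E E' Γ : Type*} [Group E] [Group E'] [Group Γ] [Fintype Γ] (π : E →* E')

theorem exists_lift (hcomm : ∀ v w : π.ker, v * w = w * v)
    (hN : Function.Bijective (fun v : π.ker => v ^ Fintype.card Γ)) (φ : Γ →* E') (g : Γ → E)
    (hg : ∀ γ, π (g γ) = φ γ) :
    ∃ ψ : Γ →* E, ∀ γ, π (ψ γ) = φ γ := by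
  let _ : CommGroup π.ker := { (inferInstance : Group π.ker) with mul_comm := hcomm }
  -- the cocycle
  have hc : ∀ a b : Γ, g a * g b * (g (a * b))⁻¹ ∈ π.ker := by
    intro a b
    rw [MonoidHom.mem_ker]
    simp [hg]
  let c : Γ → Γ → π.ker := fun a b => ⟨g a * g b * (g (a * b))⁻¹, hc a b⟩
  let cj : Γ → π.ker →* π.ker := fun a => (MulAut.conjNormal (H := π.ker) (g a)).toMonoidHom
  have hcj : ∀ a (v : π.ker), ((cj a v : π.ker) : E) = g a * v * (g a)⁻¹ := fun a v => rfl
  have hcoc : ∀ a b d, cj a (c b d) * c a (b * d) = c a b * c (a * b) d := by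
    intro a b d
    apply Subtype.ext
    simp only [Subgroup.coe_mul, hcj, c]
    rw [_root_.mul_assoc a b d]
    group
  let f : Γ → π.ker := fun a => ∏ x, c a x
  have hf : ∀ a b, cj a (f b) * f a = (c a b) ^ Fintype.card Γ * f (a * b) := by
    intro a b
    have h1 : cj a (f b) * ∏ x, c a (b * x) = ∏ x, (cj a (c b x) * c a (b * x)) := by
      rw [Finset.prod_mul_distrib, map_prod]
    have h2 : ∏ x, c a (b * x) = f a := Fintype.prod_equiv (Equiv.mulLeft b) _ _ (fun x => rfl)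
    rw [h2] at h1
    rw [h1]
    simp only [hcoc]
    rw [Finset.prod_mul_distrib, Finset.prod_const, Finset.card_univ]
  obtain ⟨h, hh⟩ : ∃ h : Γ → π.ker, ∀ a, (h a) ^ Fintype.card Γ = f a :=
    ⟨fun a => (hN.2 (f a)).choose, fun a => (hN.2 (f a)).choose_spec⟩
  have key : ∀ a b, cj a (h b) * h a = c a b * h (a * b) := by
    intro a b
    apply hN.1
    simp only [mul_pow, hh, ← map_pow]
    exact hf a b
  let ψ : Γ → E := fun a => ((h a : E))⁻¹ * g a
  have hψ : ∀ a b, ψ (a * b) = ψ a * ψ b := by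
    intro a b
    have h1 := congrArg (Subtype.val) (key a b)
    simp only [Subgroup.coe_mul, hcj, c] at h1
    -- g a * h b * (g a)⁻¹ * h a = g a * g b * (g (a b))⁻¹ * h (a b)
    have h2 : (h a : E) * (g a * h b * (g a)⁻¹) = g a * h b * (g a)⁻¹ * h a :=
      congrArg Subtype.val (mul_comm (h a) (cj a (h b)))
    rw [← h2] at h1
    have h3 : g (a * b) * (g b)⁻¹ * (g a)⁻¹ * (h a * (g a * h b * (g a)⁻¹)) = h (a * b) := by
      rw [h1]; group
    change (h (a * b) : E)⁻¹ * g (a * b) = (h a : E)⁻¹ * g a * ((h b : E)⁻¹ * g b)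
    have h4 : (h (a * b) : E)⁻¹ * (g (a * b) * (g b)⁻¹ * (g a)⁻¹) =
        (h a * (g a * h b * (g a)⁻¹))⁻¹ := by
      rw [← h3]; group
    have h5 : (h (a * b) : E)⁻¹ * g (a * b) =
        (h a * (g a * h b * (g a)⁻¹))⁻¹ * (g a * g b) := by
      rw [← h4]; group
    rw [h5, h2]; group
  refine ⟨MonoidHom.mk' ψ hψ, fun a => ?_⟩
  change π (((h a : E))⁻¹ * g a) = φ a
  rw [map_mul, map_inv, (MonoidHom.mem_ker (f := π)).1 (h a).2, hg]
  simp

theorem exists_conj (hcomm : ∀ v w : π.ker, v * w = w * v)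
    (hN : Function.Bijective (fun v : π.ker => v ^ Fintype.card Γ)) (ψ₁ ψ₂ : Γ →* E)
    (h : ∀ γ, π (ψ₁ γ) = π (ψ₂ γ)) :
    ∃ w ∈ π.ker, ∀ γ, ψ₂ γ = w * ψ₁ γ * w⁻¹ := by
  let _ : CommGroup π.ker := { (inferInstance : Group π.ker) with mul_comm := hcomm }
  have hd : ∀ a : Γ, ψ₂ a * (ψ₁ a)⁻¹ ∈ π.ker := by
    intro a
    rw [MonoidHom.mem_ker, map_mul, map_inv, h, mul_inv_cancel]
  let d : Γ → π.ker := fun a => ⟨ψ₂ a * (ψ₁ a)⁻¹, hd a⟩
  let cj : Γ → π.ker →* π.ker := fun a => (MulAut.conjNormal (H := π.ker) (ψ₂ a)).toMonoidHom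
  have hcj : ∀ a (v : π.ker), ((cj a v : π.ker) : E) = ψ₂ a * v * (ψ₂ a)⁻¹ := fun a v => rfl
  have hcoc : ∀ a b, d (a * b) = cj a (d b) * d a := by
    intro a b
    apply Subtype.ext
    simp only [Subgroup.coe_mul, hcj, d, map_mul]
    group
  let F : π.ker := ∏ x, d x
  have hF : ∀ a, F = cj a F * (d a) ^ Fintype.card Γ := by
    intro a
    have h1 : ∏ x, d (a * x) = F := Fintype.prod_equiv (Equiv.mulLeft a) _ _ (fun x => rfl)
    simp only [hcoc] at h1
    rw [Finset.prod_mul_distrib, Finset.prod_const, Finset.card_univ, ← map_prod] at h1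
    exact h1.symm
  obtain ⟨w, hw⟩ := hN.2 F
  have hw' : w ^ Fintype.card Γ = F := hw
  have key : ∀ a, w = cj a w * d a := by
    intro a
    apply hN.1
    simp only [mul_pow, hw', ← map_pow]
    exact hF a
  refine ⟨w, w.2, fun a => ?_⟩
  have h1 := congrArg Subtype.val (key a)
  simp only [Subgroup.coe_mul, hcj, d] at h1
  have h2 : (w : E) = ψ₂ a * w * (ψ₁ a)⁻¹ := by
    conv_lhs => rw [h1]
    group
  calc ψ₂ a = (ψ₂ a * w * (ψ₁ a)⁻¹) * ψ₁ a * (w : E)⁻¹ := by group
    _ = w * ψ₁ a * (w : E)⁻¹ := by rw [← h2]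

end Groth.Agent.Sga3.H797.GrpExt
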