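import Groth.Agent.Sga3.H797.InfChart

/-!
# The kernel of `G(C) → G(C/I)`, `I ^ 2 = 0`

* `toPt_mul`: the group law on the points `toPt ξ`, `ξ ≡ ε` modulo `I`, is addition of `ξ - ε`;
* `ker_comm`, `ker_pow_bijective`: the kernel is commutative, and the `N`-th power map is bijective on it if `N` is
  invertible.
-/

set_option autoImplicit false
universe u
open CategoryTheory MonoidalCategory CartesianMonoidalCategory MonObj GrpObj AlgebraicGeometry Limits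

namespace Groth.Agent.Sga3.H797.KerStr

open Groth.Agent.Sga3B.DSPts Groth.Agent.Sga3B.InfConj Groth.Agent.Sga3B.InfConjFam InfChart

variable {C : Type u} [CommRing C] {G : Over (Spec (CommRingCat.of C))} [GrpObj G] (U : UChart G)
  (I : Ideal C) (hI : I * I = ⊥)

section alg

variable {I}

lemma mul_eq_zero_of_mem (hI : I * I = ⊥) {a b : C} (ha : a ∈ I) (hb : b ∈ I) : a * b = 0 := by
  have := Ideal.mul_mem_mul ha hb
  rw [hI] at this
  simpa using this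

variable {D : Type u} [CommRing D] [Algebra C D] (ε : D →ₐ[C] C)

/-- `ξ + ζ - ε`. -/
def addHom (hI : I * I = ⊥) (ξ ζ : D →ₐ[C] C) (hξ : ∀ d, ξ d - ε d ∈ I) (hζ : ∀ d, ζ d - ε d ∈ I) :
    D →ₐ[C] C :=
  AlgHom.ofLinearMap (ξ.toLinearMap + ζ.toLinearMap - ε.toLinearMap) (by simp) (by
    intro a b
    simp only [LinearMap.sub_apply, LinearMap.add_apply, AlgHom.toLinearMap_apply, map_mul]
    have h := mul_eq_zero_of_mem hI (hξ a) (hζ b)
    have h' := mul_eq_zero_of_mem hI (hζ a) (hξ b)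
    linear_combination -h - h')

/-- `ε + c (ξ - ε)`. -/
def sclHom (hI : I * I = ⊥) (c : C) (ξ : D →ₐ[C] C) (hξ : ∀ d, ξ d - ε d ∈ I) : D →ₐ[C] C :=
  AlgHom.ofLinearMap (ε.toLinearMap + c • (ξ.toLinearMap - ε.toLinearMap)) (by simp) (by
    intro a b
    simp only [LinearMap.sub_apply, LinearMap.add_apply, AlgHom.toLinearMap_apply, map_mul, LinearMap.smul_apply,
      smul_eq_mul]
    have h := mul_eq_zero_of_mem hI (hξ a) (hξ b)
    linear_combination (c - c ^ 2) * h)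

variable {ε}

@[simp] lemma addHom_apply (hI : I * I = ⊥) (ξ ζ : D →ₐ[C] C) (hξ : ∀ d, ξ d - ε d ∈ I)
    (hζ : ∀ d, ζ d - ε d ∈ I) (d : D) : addHom ε hI ξ ζ hξ hζ d = ξ d + ζ d - ε d := rfl

@[simp] lemma sclHom_apply (hI : I * I = ⊥) (c : C) (ξ : D →ₐ[C] C) (hξ : ∀ d, ξ d - ε d ∈ I) (d : D) :
    sclHom ε hI c ξ hξ d = ε d + c * (ξ d - ε d) := rfl

lemma addHom_mem (hI : I * I = ⊥) (ξ ζ : D →ₐ[C] C) (hξ : ∀ d, ξ d - ε d ∈ I)
    (hζ : ∀ d, ζ d - ε d ∈ I) (d : D) : addHom ε hI ξ ζ hξ hζ d - ε d ∈ I := by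
  rw [addHom_apply]
  have := I.add_mem (hξ d) (hζ d)
  convert this using 1; ring

lemma sclHom_mem (hI : I * I = ⊥) (c : C) (ξ : D →ₐ[C] C) (hξ : ∀ d, ξ d - ε d ∈ I) (d : D) :
    sclHom ε hI c ξ hξ d - ε d ∈ I := by
  rw [sclHom_apply]
  have := I.mul_mem_left c (hξ d)
  convert this using 1; ring

end alg

/-- the ideal of `C ^ 3` given by `I`. -/
abbrev I3 : Ideal (Fin 3 → C) := Ideal.pi (fun _ => I)

lemma I3_mul {I : Ideal C} (hI : I * I = ⊥) : I3 I * I3 I = ⊥ := by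
  rw [eq_bot_iff, Ideal.mul_le]
  intro a ha b hb
  rw [Ideal.mem_bot]
  funext i
  exact mul_eq_zero_of_mem hI (ha i) (hb i)

/-- `f ↦ f 0 + f 1 - f 2`. -/
def L3 : (Fin 3 → C) →ₗ[C] C where
  toFun f := f 0 + f 1 - f 2
  map_add' f g := by simp only [Pi.add_apply]; ring
  map_smul' c f := by simp only [Pi.smul_apply, smul_eq_mul, RingHom.id_apply]; ring

lemma L3_apply (f : Fin 3 → C) : L3 f = f 0 + f 1 - f 2 := rfl

/-- the subring `C + I ^ 3` of `C ^ 3`. -/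
abbrev A3 : Subalgebra C (Fin 3 → C) := avgSub (C := C) (I3 I)

/-- the corresponding ideal. -/
abbrev J3 : Ideal (A3 I) := (I3 I).comap (A3 I).val.toRingHom

lemma J3_mul {I : Ideal C} (hI : I * I = ⊥) : J3 I * J3 I = ⊥ := by
  rw [eq_bot_iff, Ideal.mul_le]
  intro a ha b hb
  rw [Ideal.mem_bot]
  apply Subtype.ext
  have h := Ideal.mul_mem_mul (I := I3 I) (J := I3 I) ha hb
  rw [I3_mul hI] at h
  simpa using h

/-- the averaging map. -/
noncomputable def av3 {I : Ideal C} (hI : I * I = ⊥) : A3 I →ₐ[C] C :=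
  avgHom (I3 I) I hI (I3_mul hI) L3 (by simp [L3_apply]) (by
    intro j hj
    rw [L3_apply]
    exact I.sub_mem (I.add_mem (hj 0) (hj 1)) (hj 2))

lemma av3_apply {I : Ideal C} (hI : I * I = ⊥) (x : A3 I) : av3 hI x = x.1 0 + x.1 1 - x.1 2 := rfl

/-- projections -/
def pr3 {I : Ideal C} (i : Fin 3) : A3 I →ₐ[C] C := (Pi.evalAlgHom C (fun _ => C) i).comp (A3 I).val

lemma pr3_apply {I : Ideal C} (i : Fin 3) (x : A3 I) : pr3 i x = x.1 i := rfl

section

variable {I}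

/-- the hom with components `ξ i`. -/
def hom3 {D : Type u} [CommRing D] [Algebra C D] (ε : D →ₐ[C] C) (ξ : Fin 3 → (D →ₐ[C] C))
    (hξ : ∀ i d, ξ i d - ε d ∈ I) : D →ₐ[C] A3 I :=
  (AlgHom.pi ξ).codRestrict (A3 I) (fun d => ⟨ε d, fun i => hξ i d⟩)

lemma hom3_apply {D : Type u} [CommRing D] [Algebra C D] (ε : D →ₐ[C] C) (ξ : Fin 3 → (D →ₐ[C] C))
    (hξ : ∀ i d, ξ i d - ε d ∈ I) (d : D) (i : Fin 3) : (hom3 ε ξ hξ d).1 i = ξ i d := rfl

lemma hom3_mem {D : Type u} [CommRing D] [Algebra C D] (ε : D →ₐ[C] C) (ξ : Fin 3 → (D →ₐ[C] C))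
    (hξ : ∀ i d, ξ i d - ε d ∈ I) (d : D) : hom3 ε ξ hξ d - algebraMap C (A3 I) (ε d) ∈ J3 I :=
  fun i => hξ i d

variable {U}

include hI in
/-- **The group law on the kernel is addition.** -/
theorem toPt_mul (ξ ζ : U.D →ₐ[C] C) (hξ : ∀ d, ξ d - U.ε d ∈ I) (hζ : ∀ d, ζ d - U.ε d ∈ I) :
    toPt U ξ * toPt U ζ = toPt U (addHom U.ε hI ξ ζ hξ hζ) := by
  have hε : ∀ d, U.ε d - U.ε d ∈ I := fun d => by rw [sub_self]; exact I.zero_mem
  -- the three points
  let a : Fin 3 → (U.D →ₐ[C] C) := ![ξ, U.ε, U.ε]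
  let b : Fin 3 → (U.D →ₐ[C] C) := ![U.ε, ζ, U.ε]
  let c : Fin 3 → (U.D →ₐ[C] C) := ![ξ, ζ, U.ε]
  have ha : ∀ i d, a i d - U.ε d ∈ I := by intro i d; fin_cases i <;> first | exact hξ d | exact hε d
  have hb : ∀ i d, b i d - U.ε d ∈ I := by intro i d; fin_cases i <;> first | exact hζ d | exact hε d
  have hc : ∀ i d, c i d - U.ε d ∈ I := by
    intro i d; fin_cases i <;> first | exact hξ d | exact hζ d | exact hε d
  let A := toPt U (hom3 U.ε a ha)
  let B := toPt U (hom3 U.ε b hb)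
  let Cc := toPt U (hom3 U.ε c hc)
  have hinf : ∀ (x : Fin 3 → (U.D →ₐ[C] C)) (hx : ∀ i d, x i d - U.ε d ∈ I),
      ptMap (Ideal.Quotient.mkₐ C (J3 I)) ≫ toPt U (hom3 U.ε x hx) = 1 := by
    intro x hx
    refine inf_of_toPt _ _ fun d => ?_
    have h := hom3_mem U.ε x hx d
    rw [← Ideal.Quotient.eq] at h
    exact h
  have hpr : ∀ (x : Fin 3 → (U.D →ₐ[C] C)) (hx : ∀ i d, x i d - U.ε d ∈ I) (i : Fin 3),
      ptMap (pr3 i) ≫ toPt U (hom3 U.ε x hx) = toPt U (x i) := by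
    intro x hx i
    rw [ptMap_toPt]
    rfl
  have h1 : toPt U U.ε = 1 := by
    rw [← toPt_unit]
    congr 1
  have key : A * B = Cc := by
    refine eq_of_inf U (J3 I) (J3_mul hI) _ _ ?_ (hinf c hc) (fun _ : Fin 3 => C) (fun i => pr3 i) ?_ ?_
    · rw [MonObj.comp_mul, hinf a ha, hinf b hb, _root_.one_mul]
    · intro x y hxy
      apply Subtype.ext
      funext i
      exact hxy i
    · intro i
      rw [MonObj.comp_mul, hpr a ha, hpr b hb, hpr c hc]
      fin_cases i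
      · change toPt U ξ * toPt U U.ε = toPt U ξ
        rw [h1, _root_.mul_one]
      · change toPt U U.ε * toPt U ζ = toPt U ζ
        rw [h1, _root_.one_mul]
      · change toPt U U.ε * toPt U U.ε = toPt U U.ε
        rw [h1, _root_.one_mul]
  have h2 := congrArg (fun x => ptMap (av3 hI) ≫ x) key
  simp only [MonObj.comp_mul] at h2
  change ptMap (av3 hI) ≫ toPt U (hom3 U.ε a ha) * ptMap (av3 hI) ≫ toPt U (hom3 U.ε b hb) =
    ptMap (av3 hI) ≫ toPt U (hom3 U.ε c hc) at h2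
  rw [ptMap_toPt, ptMap_toPt, ptMap_toPt] at h2
  have e1 : (av3 hI).comp (hom3 U.ε a ha) = ξ := by
    apply AlgHom.ext
    intro d
    change ξ d + U.ε d - U.ε d = ξ d
    ring
  have e2 : (av3 hI).comp (hom3 U.ε b hb) = ζ := by
    apply AlgHom.ext
    intro d
    change U.ε d + ζ d - U.ε d = ζ d
    ring
  have e3 : (av3 hI).comp (hom3 U.ε c hc) = addHom U.ε hI ξ ζ hξ hζ := rfl
  rw [e1, e2, e3] at h2
  exact h2

/-- Reduction modulo `I` of `C`-points. -/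
noncomputable def red (G : Over (Spec (CommRingCat.of C))) [GrpObj G] (I : Ideal C) :
    (pt C C ⟶ G) →* (pt C (C ⧸ I) ⟶ G) :=
  pre G (ptMap (Ideal.Quotient.mkₐ C I))

lemma mem_ker_red (v : pt C C ⟶ G) : v ∈ (red G I).ker ↔ ptMap (Ideal.Quotient.mkₐ C I) ≫ v = 1 := Iff.rfl

include hI in
lemma mem_ker_iff (U : UChart G) (v : pt C C ⟶ G) :
    v ∈ (red G I).ker ↔ ∃ ξ : U.D →ₐ[C] C, v = toPt U ξ ∧ ∀ d, ξ d - U.ε d ∈ I := by
  rw [mem_ker_red]
  constructor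
  · intro h
    exact exists_of_inf (U := U) I hI v h
  · rintro ⟨ξ, rfl, h⟩
    refine inf_of_toPt _ _ fun d => ?_
    have := h d
    rw [← Ideal.Quotient.eq] at this
    exact this

include U hI in
theorem ker_comm (v w : (red G I).ker) : v * w = w * v := by
  obtain ⟨v, hv⟩ := v
  obtain ⟨w, hw⟩ := w
  apply Subtype.ext
  change v * w = w * v
  obtain ⟨ξ, rfl, hξ⟩ := (mem_ker_iff hI U v).1 hv
  obtain ⟨ζ, rfl, hζ⟩ := (mem_ker_iff hI U w).1 hw
  rw [toPt_mul hI ξ ζ hξ hζ, toPt_mul hI ζ ξ hζ hξ]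
  congr 1
  apply AlgHom.ext
  intro d
  simp only [addHom_apply]
  ring

theorem toPt_pow (ξ : U.D →ₐ[C] C) (hξ : ∀ d, ξ d - U.ε d ∈ I) (k : ℕ) :
    (toPt U ξ) ^ k = toPt U (sclHom U.ε hI (k : C) ξ hξ) := by
  induction k with
  | zero =>
    rw [pow_zero, ← toPt_unit]
    congr 1
    apply AlgHom.ext
    intro d
    simp only [sclHom_apply]
    simp [Algebra.ofId]
  | succ k ih =>
    rw [pow_succ, ih, toPt_mul hI _ _ (sclHom_mem hI _ _ hξ) hξ]
    congr 1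
    apply AlgHom.ext
    intro d
    simp only [sclHom_apply, addHom_apply]
    push_cast
    ring

include U hI in
theorem ker_pow_bijective {N : ℕ} (hN : IsUnit (N : C)) :
    Function.Bijective (fun v : (red G I).ker => v ^ N) := by
  obtain ⟨r, hr⟩ := hN.exists_left_inv
  constructor
  · rintro ⟨v, hv⟩ ⟨w, hw⟩ h
    have h' : v ^ N = w ^ N := congrArg Subtype.val h
    apply Subtype.ext
    change v = w
    obtain ⟨ξ, rfl, hξ⟩ := (mem_ker_iff hI U v).1 hv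
    obtain ⟨ζ, rfl, hζ⟩ := (mem_ker_iff hI U w).1 hw
    rw [toPt_pow hI ξ hξ, toPt_pow hI ζ hζ] at h'
    have h1 := toPt_injective U h'
    congr 1
    apply AlgHom.ext
    intro d
    have h2 := congr($h1 d)
    simp only [sclHom_apply] at h2
    linear_combination r * h2 + (ζ d - ξ d) * hr
  · rintro ⟨w, hw⟩
    obtain ⟨ζ, rfl, hζ⟩ := (mem_ker_iff hI U w).1 hw
    have hm := sclHom_mem hI r ζ hζ
    refine ⟨⟨toPt U (sclHom U.ε hI r ζ hζ), (mem_ker_iff hI U _).2 ⟨_, rfl, hm⟩⟩, ?_⟩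
    apply Subtype.ext
    change (toPt U (sclHom U.ε hI r ζ hζ)) ^ N = toPt U ζ
    rw [toPt_pow hI _ hm]
    congr 1
    apply AlgHom.ext
    intro d
    simp only [sclHom_apply]
    linear_combination (ζ d - U.ε d) * hr

end

end Groth.Agent.Sga3.H797.KerStr
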