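import Groth.Agent.Sga3.H797.KerStr
import Groth.Agent.Sga3.H797.GrpExt
import Groth.Agent.Sga3B.LocalLift

/-!
# The kernel of `G(B) → G(B/I)` for a group scheme over `S` and `x : Spec B ⟶ S`

* `redHom`: reduction of `B`-points modulo `I`.
* `redHom_ker_comm`, `redHom_ker_pow_bijective`.
* `exists_lift_hom`, `exists_conj_hom`: lifting homomorphisms `Γ → G(B/I)` to `G(B)` for a finite group `Γ` of order
  invertible in `B`, and conjugacy of the lifts.
-/

set_option autoImplicit false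
universe u
open CategoryTheory MonoidalCategory CartesianMonoidalCategory MonObj GrpObj AlgebraicGeometry Limits

namespace Groth.Agent.Sga3.H797.LocKer

open Groth.Agent.Sga3B.DSPts Groth.Agent.Sga3B.InfConj Groth.Agent.Sga3B.InfConjFam InfChart KerStr

variable {S : Scheme.{u}} {B : Type u} [CommRing B] (x : Spec (CommRingCat.of B) ⟶ S) (G : Over S) [GrpObj G]
  (I : Ideal B)

/-- `B`-points over `S` and over `Spec B`. -/
noncomputable def baseIso : Over.mk x ≅ (Over.map x).obj (pt B B) :=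
  Over.isoMk (Iso.refl _) (by
    simp only [Iso.refl_hom, Over.mk_hom, Over.map_obj_hom]
    erw [Category.id_comp, Spec.map_id, Category.id_comp])

lemma baseIso_hom_left : (baseIso x).hom.left = 𝟙 _ := rfl
lemma baseIso_inv_left : (baseIso x).inv.left = 𝟙 _ := rfl

/-- `B`-points of `G` over `S` are `B`-points of the base change. -/
noncomputable def ptEquiv : (Over.mk x ⟶ G) ≃* (pt B B ⟶ Red.bc x G) where
  toFun v := bcEquiv x (pt B B) G ((baseIso x).inv ≫ v)
  invFun w := (baseIso x).hom ≫ (bcEquiv x (pt B B) G).symm w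
  left_inv v := by simp
  right_inv w := by simp
  map_mul' v w := by rw [MonObj.comp_mul, map_mul]

lemma ptEquiv_apply (v : Over.mk x ⟶ G) : ptEquiv x G v = bcEquiv x (pt B B) G ((baseIso x).inv ≫ v) := rfl

/-- Reduction modulo `I`. -/
noncomputable def redHom :
    (Over.mk x ⟶ G) →* (Over.mk (Spec.map (CommRingCat.ofHom (Ideal.Quotient.mk I)) ≫ x) ⟶ G) :=
  pre G (redMap x I)

lemma redHom_apply (v : Over.mk x ⟶ G) : redHom x G I v = redMap x I ≫ v := rfl

lemma mem_ker_redHom {v : Over.mk x ⟶ G} : v ∈ (redHom x G I).ker ↔ redMap x I ≫ v = 1 := Iff.rfl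

lemma ptMap_ptEquiv (v : Over.mk x ⟶ G) : ptMap (Ideal.Quotient.mkₐ B I) ≫ ptEquiv x G v =
    bcEquiv x (pt B (B ⧸ I)) G (redMap x I ≫ v) := by
  rw [ptEquiv_apply, bcEquiv_naturality]
  congr 1

lemma ptEquiv_mem_ker {v : Over.mk x ⟶ G} : ptEquiv x G v ∈ (red (Red.bc x G) I).ker ↔ v ∈ (redHom x G I).ker := by
  rw [mem_ker_red, mem_ker_redHom, ptMap_ptEquiv]
  constructor
  · intro h
    exact (bcEquiv x (pt B (B ⧸ I)) G).injective (h.trans (map_one _).symm)
  · intro h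
    rw [h]
    exact map_one (bcEquiv x (pt B (B ⧸ I)) G)

variable {I} (hI : I * I = ⊥) (hU : HasAffineUnitNhd (Red.bc x G))

include hI hU in
theorem redHom_ker_comm (v w : (redHom x G I).ker) : v * w = w * v := by
  obtain ⟨U⟩ := exists_uChart _ hU
  have h := ker_comm (U := U) hI ⟨_, (ptEquiv_mem_ker x G I).2 v.2⟩ ⟨_, (ptEquiv_mem_ker x G I).2 w.2⟩
  apply Subtype.ext
  apply (ptEquiv x G).injective
  have h1 := congrArg Subtype.val h
  rw [Subgroup.coe_mul, Subgroup.coe_mul, map_mul, map_mul]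
  exact h1

include hI hU in
theorem redHom_ker_pow_bijective {N : ℕ} (hN : IsUnit (N : B)) :
    Function.Bijective (fun v : (redHom x G I).ker => v ^ N) := by
  obtain ⟨U⟩ := exists_uChart _ hU
  have h := ker_pow_bijective (U := U) hI hN
  constructor
  · rintro ⟨v, hv⟩ ⟨w, hw⟩ hvw
    have hvw' : v ^ N = w ^ N := congrArg Subtype.val hvw
    have h1 := @h.1 ⟨_, (ptEquiv_mem_ker x G I).2 hv⟩ ⟨_, (ptEquiv_mem_ker x G I).2 hw⟩ (by
      apply Subtype.ext
      change (ptEquiv x G v) ^ N = (ptEquiv x G w) ^ N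
      rw [← map_pow, hvw', map_pow])
    apply Subtype.ext
    exact (ptEquiv x G).injective (congrArg Subtype.val h1)
  · rintro ⟨w, hw⟩
    obtain ⟨⟨v, hv⟩, hvw⟩ := h.2 ⟨_, (ptEquiv_mem_ker x G I).2 hw⟩
    have hvw' : v ^ N = ptEquiv x G w := congrArg Subtype.val hvw
    obtain ⟨v', rfl⟩ := (ptEquiv x G).surjective v
    refine ⟨⟨v', (ptEquiv_mem_ker x G I).1 hv⟩, ?_⟩
    apply Subtype.ext
    change v' ^ N = w
    apply (ptEquiv x G).injective
    rw [map_pow, hvw']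

variable [IsLocalRing B] {Γ : Type*} [Group Γ] [Finite Γ] (hΓ : IsUnit ((Nat.card Γ : ℕ) : B))

include hI hΓ in
/-- Lifting homomorphisms from a finite group of invertible order. -/
theorem exists_lift_hom (φ : Γ →* (Over.mk (Spec.map (CommRingCat.ofHom (Ideal.Quotient.mk I)) ≫ x) ⟶ G))
    (g : Γ → (Over.mk x ⟶ G)) (hg : ∀ γ, redMap x I ≫ g γ = φ γ) :
    ∃ ψ : Γ →* (Over.mk x ⟶ G), ∀ γ, redMap x I ≫ ψ γ = φ γ := by
  have := Fintype.ofFinite Γ
  have hU := Groth.Agent.Sga3B.LocalLift.hasAffineUnitNhd_of_isLocalRing (Red.bc x G)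
  exact GrpExt.exists_lift (redHom x G I) (redHom_ker_comm x G hI hU)
    (redHom_ker_pow_bijective x G hI hU (by rwa [Nat.card_eq_fintype_card] at hΓ)) φ g hg

include hI hΓ in
/-- Conjugacy of the lifts. -/
theorem exists_conj_hom (ψ₁ ψ₂ : Γ →* (Over.mk x ⟶ G)) (h : ∀ γ, redMap x I ≫ ψ₁ γ = redMap x I ≫ ψ₂ γ) :
    ∃ w : Over.mk x ⟶ G, redMap x I ≫ w = 1 ∧ ∀ γ, ψ₂ γ = w * ψ₁ γ * w⁻¹ := by
  have := Fintype.ofFinite Γ
  have hU := Groth.Agent.Sga3B.LocalLift.hasAffineUnitNhd_of_isLocalRing (Red.bc x G)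
  exact GrpExt.exists_conj (redHom x G I) (redHom_ker_comm x G hI hU)
    (redHom_ker_pow_bijective x G hI hU (by rwa [Nat.card_eq_fintype_card] at hΓ)) ψ₁ ψ₂ h

end Groth.Agent.Sga3.H797.LocKer
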