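import Groth.Agent.Sga3.H797.Sat
import Groth.Agent.Sga3.H797.HomFin
import Groth.Agent.Sga3.H797.DescFam

/-!
# The orbit locus of a family of rigidified maximal tori

A family `(P_k, t_k, φ_k)` of rigidified maximal tori, the flat maps `P_k ⟶ S` being jointly surjective. The locus
`E ⊆ Hom(Γ₀, G)` of homomorphisms which are locally conjugate to some `φ_k` is open.
-/

set_option autoImplicit false
universe u
open CategoryTheory MonoidalCategory CartesianMonoidalCategory MonObj GrpObj AlgebraicGeometry Limits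

namespace Groth.Agent.Sga3.H797.OrbFam

open Groth.Agent.Sga3B Groth.Agent.Sga3B.BcPts Groth.Agent.Sga3B.MT Groth.Agent.Sga3B.RedIso
  Groth.Agent.Sga3.H828 TorsNhd Rigid Good HomFin Sat

/-- Openness can be tested on a finite flat jointly surjective family of quasi-compact morphisms. -/
theorem isOpen_of_family {κ : Type u} [Finite κ] {X : κ → Scheme.{u}} {Y : Scheme.{u}} (π : ∀ k, X k ⟶ Y)
    [∀ k, Flat (π k)] [∀ k, QuasiCompact (π k)] (hs : ∀ y, ∃ k, y ∈ Set.range (π k)) (E : Set Y)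
    (h : ∀ k, IsOpen (π k ⁻¹' E)) : IsOpen E := by
  have h1 : Surjective (Sigma.desc π) := by
    refine Surjective.sigmaDesc_of_union_range_eq_univ ?_
    ext y
    simpa using hs y
  have hpre : ∀ A : Set Y, (Sigma.desc π) ⁻¹' A = ⋃ k, Sigma.ι X k '' (π k ⁻¹' A) := by
    intro A
    ext z
    obtain ⟨⟨k, x⟩, rfl⟩ := (sigmaMk X).surjective z
    rw [sigmaMk_mk]
    constructor
    · intro hz
      refine Set.mem_iUnion.mpr ⟨k, x, ?_, rfl⟩
      have hz' : Sigma.desc π (Sigma.ι X k x) ∈ A := hz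
      rwa [← Scheme.Hom.comp_apply, Sigma.ι_desc] at hz'
    · intro hz
      obtain ⟨k', x', hx', he⟩ := Set.mem_iUnion.mp hz
      have : Sigma.desc π (Sigma.ι X k' x') ∈ A := by
        rw [← Scheme.Hom.comp_apply, Sigma.ι_desc]
        exact hx'
      rw [he] at this
      exact this
  have h2 : QuasiCompact (Sigma.desc π) := by
    refine ⟨fun U hU hc => ?_⟩
    rw [hpre]
    exact isCompact_iUnion fun k => ((π k).isCompact_preimage (U := ⟨U, hU⟩) hc).image (Sigma.ι X k).continuous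
  rw [← (Flat.isQuotientMap_of_surjective (Sigma.desc π)).isOpen_preimage, hpre]
  exact isOpen_iUnion fun k => (Sigma.ι X k).isOpenEmbedding.isOpenMap _ (h k)

variable {S : Scheme.{u}} (G : Over S) [GrpObj G]

/-- A family of rigidified maximal tori. -/
structure Fam (n : ℕ) where
  κ : Type u
  finite : Finite κ
  P : κ → Scheme.{u}
  compact : ∀ k, CompactSpace (P k)
  f : ∀ k, P k ⟶ S
  flat : ∀ k, Flat (f k)
  qc : ∀ k, QuasiCompact (f k)
  surj : ∀ s, ∃ k, s ∈ Set.range (f k)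
  T : ∀ k, Over (P k)
  grp : ∀ k, GrpObj (T k)
  t : ∀ k, T k ⟶ Red.bc (f k) G
  Γ : κ → Type
  grpΓ : ∀ k, Group (Γ k)
  finΓ : ∀ k, Finite (Γ k)
  inv : ∀ k, Inv (Nat.card (Γ k)) S
  φ : ∀ k, Γ k →* (Over.mk (f k) ⟶ G)
  good : ∀ k, Good n (φ k) (t k)
  inj : ∀ (k : κ) (X : Over S) [Nonempty X.left] (a : X ⟶ Over.mk (f k)), Function.Injective (fun γ => a ≫ φ k γ)

attribute [instance] Fam.finite Fam.compact Fam.flat Fam.qc Fam.grp Fam.grpΓ Fam.finΓ

variable {G} {n : ℕ} (F : Fam G n) {Γ₀ : Type} [Group Γ₀] {H : Over S} {υ : Γ₀ →* (H ⟶ G)}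
  (hH : IsHomScheme G Γ₀ H υ)

/-- the `S`-scheme `P_k` -/
abbrev Fam.Q (k : F.κ) : Over S := Over.mk (F.f k)

include hH in
lemma exists_orbit (k : F.κ) (a : Γ₀ ≃* F.Γ k) : ∃ o : G ⊗ F.Q k ⟶ H ⊗ F.Q k, o ≫ snd _ _ = snd _ _ ∧
    ∀ γ, o ≫ fst _ _ ≫ υ γ = fst _ _ * (snd _ _ ≫ F.φ k (a γ)) * (fst _ _)⁻¹ := by
  let ψ : Γ₀ →* (G ⊗ F.Q k ⟶ G) :=
    (MulAut.conj (fst G (F.Q k))).toMonoidHom.comp ((pre (snd G (F.Q k)) (F.φ k)).comp a.toMonoidHom)
  obtain ⟨b, hb, -⟩ := hH.existsUnique _ ψ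
  refine ⟨lift b (snd _ _), lift_snd _ _, fun γ => ?_⟩
  rw [lift_fst_assoc, hb]
  rfl

/-- an orbit map -/
noncomputable def orb (k : F.κ) (a : Γ₀ ≃* F.Γ k) : G ⊗ F.Q k ⟶ H ⊗ F.Q k :=
  (exists_orbit F hH k a).choose

lemma orb_snd (k : F.κ) (a : Γ₀ ≃* F.Γ k) : orb F hH k a ≫ snd _ _ = snd _ _ :=
  (exists_orbit F hH k a).choose_spec.1

lemma orb_fst (k : F.κ) (a : Γ₀ ≃* F.Γ k) (γ : Γ₀) : orb F hH k a ≫ fst _ _ ≫ υ γ =
    fst _ _ * (snd _ _ ≫ F.φ k (a γ)) * (fst _ _)⁻¹ :=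
  (exists_orbit F hH k a).choose_spec.2 γ

/-- the map to the scheme of homomorphisms -/
noncomputable def orbH (k : F.κ) (a : Γ₀ ≃* F.Γ k) : G ⊗ F.Q k ⟶ H := orb F hH k a ≫ fst _ _

/-- the orbit locus -/
def locus : Set H.left := {h | ∃ (k : F.κ) (a : Γ₀ ≃* F.Γ k), h ∈ Set.range (orbH F hH k a).left}

/-- a lifting criterion -/
lemma lift_orb (k : F.κ) (a : Γ₀ ≃* F.Γ k) {X : Over S} (g : X ⟶ G) (p : X ⟶ F.Q k) (h : X ⟶ H)
    (e : ∀ γ, h ≫ υ γ = g * (p ≫ F.φ k (a γ)) * g⁻¹) : lift g p ≫ orb F hH k a = lift h p := by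
  apply CartesianMonoidalCategory.hom_ext
  · rw [lift_fst]
    refine (hH.existsUnique _ (pre h υ)).unique (fun γ => ?_) (fun γ => rfl)
    rw [Category.assoc, Category.assoc, orb_fst, MonObj.comp_mul, MonObj.comp_mul, GrpObj.comp_inv, lift_fst,
      lift_snd_assoc, ← e]
    rfl
  · rw [Category.assoc, orb_snd, lift_snd, lift_snd]

theorem preimage_locus [LocallyOfFiniteType G.hom] (k : F.κ) :
    (fst H (F.Q k)).left ⁻¹' locus F hH = ⋃ a : Γ₀ ≃* F.Γ k, Set.range (orb F hH k a).left := by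
  ext z
  constructor
  · rintro ⟨k', a', w, hw⟩
    obtain ⟨ω, hω1, hω2⟩ := Scheme.Pullback.exists_preimage_pullback (f := (fst H (F.Q k)).left)
      (g := (orbH F hH k' a').left) z w hw.symm
    let Ω := pullback (fst H (F.Q k)).left (orbH F hH k' a').left
    let L := AlgebraicClosure (Ω.residueField ω)
    let x : Spec (CommRingCat.of L) ⟶ Ω := Red.geomPt ω
    have hxy : pullback.fst (fst H (F.Q k)).left (orbH F hH k' a').left ≫ (H ⊗ F.Q k).hom =
        pullback.snd (fst H (F.Q k)).left (orbH F hH k' a').left ≫ (G ⊗ F.Q k').hom := by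
      have e1 : (H ⊗ F.Q k).hom = (fst H (F.Q k)).left ≫ H.hom := (Over.w (fst H (F.Q k))).symm
      have e2 : (G ⊗ F.Q k').hom = (orbH F hH k' a').left ≫ H.hom := (Over.w (orbH F hH k' a')).symm
      rw [e1, e2, pullback.condition_assoc]
    let y : Spec (CommRingCat.of L) ⟶ S := x ≫ pullback.fst _ _ ≫ (H ⊗ F.Q k).hom
    let ζ : Over.mk y ⟶ H ⊗ F.Q k := Over.homMk (x ≫ pullback.fst _ _) (Category.assoc _ _ _)
    let w' : Over.mk y ⟶ G ⊗ F.Q k' := Over.homMk (x ≫ pullback.snd _ _) (by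
      change (x ≫ pullback.snd _ _) ≫ (G ⊗ F.Q k').hom = x ≫ pullback.fst _ _ ≫ (H ⊗ F.Q k).hom
      rw [hxy, Category.assoc])
    have hζ : ζ ≫ fst _ _ = w' ≫ orbH F hH k' a' := by
      ext1
      change (x ≫ pullback.fst _ _) ≫ (fst H (F.Q k)).left = (x ≫ pullback.snd _ _) ≫ (orbH F hH k' a').left
      exact (Category.assoc _ _ _).trans ((congrArg (x ≫ ·) pullback.condition).trans (Category.assoc _ _ _).symm)
    have hne : Nonempty (Over.mk y).left := inferInstanceAs (Nonempty (PrimeSpectrum L))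
    obtain ⟨α, c, hc⟩ := exists_conj_geom (F.good k') (F.good k) (w' ≫ snd _ _) (ζ ≫ snd _ _)
      (F.inj k' _ _) (F.inj k _ _)
    refine Set.mem_iUnion.mpr ⟨a'.trans α, ?_⟩
    have h3 := lift_orb F hH k (a'.trans α) ((w' ≫ fst _ _) * c⁻¹) (ζ ≫ snd _ _) (ζ ≫ fst _ _) (fun γ => by
      have h4 := congrArg (w' ≫ ·) (orb_fst F hH k' a' γ)
      simp only [MonObj.comp_mul, GrpObj.comp_inv] at h4
      have h5 : (ζ ≫ fst _ _) ≫ υ γ = w' ≫ orb F hH k' a' ≫ fst _ _ ≫ υ γ := by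
        rw [hζ, orbH]
        simp only [Category.assoc]
      have h6 := hc (a' γ)
      rw [h5, h4, MulEquiv.trans_apply, ← h6, Category.assoc]
      group)
    have h7 : lift (ζ ≫ fst _ _) (ζ ≫ snd _ _) = ζ := by
      rw [← comp_lift, lift_fst_snd, Category.comp_id]
    rw [h7] at h3
    obtain ⟨pt⟩ := hne
    have h9 : x pt = ω := by
      have h10 : x pt ∈ Set.range (Ω.fromSpecResidueField ω) := ⟨_, rfl⟩
      rwa [Scheme.range_fromSpecResidueField] at h10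
    have h8 : ζ.left pt = z := by
      change (x ≫ pullback.fst _ _) pt = z
      rw [Scheme.Hom.comp_apply, h9, hω1]
    refine ⟨(lift ((w' ≫ fst _ _) * c⁻¹) (ζ ≫ snd _ _)).left pt, ?_⟩
    rw [← Scheme.Hom.comp_apply, ← Over.comp_left, h3, h8]
  · intro hz
    obtain ⟨a, w, hw⟩ := Set.mem_iUnion.mp hz
    refine ⟨k, a, w, ?_⟩
    rw [← hw]
    rfl

/-- The orbit maps are smooth. -/
theorem smooth_orb [Smooth G.hom] [LocallyOfFinitePresentation H.hom] (k : F.κ) (a : Γ₀ ≃* F.Γ k) :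
    Smooth (orb F hH k a).left := by
  have hfin : Finite Γ₀ := Finite.of_equiv _ a.symm.toEquiv
  refine smooth_orbit hH ?_ ((F.φ k).comp a.toMonoidHom) (orb F hH k a) (orb_snd F hH k a) (orb_fst F hH k a)
  rw [Nat.card_congr a.toEquiv]
  exact F.inv k

/-- **The orbit locus is open.** -/
theorem isOpen_locus [Smooth G.hom] [LocallyOfFinitePresentation H.hom] : IsOpen (locus F hH) := by
  have h1 : ∀ k, Flat (fst H (F.Q k)).left := fun k => inferInstanceAs (Flat (pullback.fst H.hom (F.f k)))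
  have h2 : ∀ k, QuasiCompact (fst H (F.Q k)).left := fun k =>
    inferInstanceAs (QuasiCompact (pullback.fst H.hom (F.f k)))
  refine isOpen_of_family (fun k => (fst H (F.Q k)).left) (fun h => ?_) _ fun k => ?_
  · obtain ⟨k, p, hp⟩ := F.surj (H.hom h)
    obtain ⟨w, hw, -⟩ := Scheme.Pullback.exists_preimage_pullback (f := H.hom) (g := F.f k) h p hp.symm
    exact ⟨k, w, hw⟩
  · rw [preimage_locus]
    refine isOpen_iUnion fun a => ?_
    have := smooth_orb F hH k a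
    exact (orb F hH k a).left.isOpenMap.isOpen_range

end Groth.Agent.Sga3.H797.OrbFam
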