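import Groth.Agent.Sga3.H797.Frame
import Groth.Agent.Sga3.H797.OrbFam

/-!
# Rigidifying a finite family of split maximal tori
-/

set_option autoImplicit false
universe u
open CategoryTheory MonoidalCategory CartesianMonoidalCategory MonObj GrpObj AlgebraicGeometry Limits

namespace Groth.Agent.Sga3.H797.MkFam

open Groth.Agent.Sga3B Groth.Agent.Sga3B.BcPts Groth.Agent.Sga3B.MT Groth.Agent.Sga3B.RedIso
  Groth.Agent.Sga3.H828 TorsNhd Rigid Good HomFin OrbFam Frame

variable {S : Scheme.{u}} {G : Over S} [GrpObj G]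

lemma inv_pow {n : ℕ} (h : Inv n S) (m : ℕ) : Inv (n ^ m) S := by
  unfold HomFin.Inv at *
  rw [Nat.cast_pow]
  exact IsUnit.pow m h

lemma card_frame (r n : ℕ) : Nat.card (Multiplicative (Fin r → ZMod n)) = n ^ r := by
  rw [Nat.card_congr Multiplicative.toAdd, Nat.card_fun, Nat.card_zmod, Nat.card_fin]

/-- **A finite family of split maximal tori can be rigidified.** -/
theorem exists_fam [QuasiSeparatedSpace S] [LocallyOfFiniteType G.hom] {l : ℕ} (hl : 2 ≤ l) (hinv : Inv l S)
    {κ : Type u} [Finite κ] (A : κ → Type u) [∀ k, CommRing (A k)] (f : ∀ k, Spec (CommRingCat.of (A k)) ⟶ S)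
    (hf : ∀ k, Flat (f k)) (hs : ∀ s, ∃ k, s ∈ Set.range (f k)) (r : κ → ℕ)
    (t : ∀ k, Red.DS _ (Fin (r k) → ℤ) ⟶ Red.bc (f k) G) (ht : ∀ k, Red.IsMaximalTorus (t k)) :
    ∃ n : ℕ, Nonempty (Fam.{u} G n) := by
  have hG : ∀ k, LocallyOfFiniteType (Red.bc (f k) G).hom := fun k =>
    inferInstanceAs (LocallyOfFiniteType (pullback.snd G.hom (f k)))
  have h1 : ∀ k, ∃ m₀ : ℕ, ∀ m, m₀ ≤ m → IsRigid (t k) (l ^ m) := fun k => by
    have := (ht k).1
    exact exists_pow (t k) hl
  choose m₀ hm₀ using h1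
  have : Fintype κ := Fintype.ofFinite κ
  let m := Finset.univ.sup m₀
  let n := l ^ m
  have hn : 0 < n := Nat.pow_pos (by omega)
  have : NeZero n := ⟨hn.ne'⟩
  have hrig : ∀ k, IsRigid (t k) n := fun k => hm₀ k m (Finset.le_sup (Finset.mem_univ k))
  have hninv : Inv n S := inv_pow hinv m
  choose P hP p hp1 hp2 T gT t' φ hgood hinj using fun k =>
    exists_good (r k) n hn (A k) (hninv.of_hom (f k)).isUnit (f k) (t k) (ht k) (hrig k)
  refine ⟨n, ⟨{
    κ := κ
    finite := inferInstance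
    P := P
    compact := fun k => inferInstance
    f := fun k => p k ≫ f k
    flat := fun k => inferInstance
    qc := fun k => inferInstance
    surj := fun s => ?_
    T := T
    grp := gT
    t := t'
    Γ := fun k => Multiplicative (Fin (r k) → ZMod n)
    grpΓ := fun k => inferInstance
    finΓ := fun k => inferInstanceAs (Finite (Fin (r k) → ZMod n))
    inv := fun k => ?_
    φ := φ
    good := hgood
    inj := fun k X _ a => hinj k X a }⟩⟩
  · obtain ⟨k, y, hy⟩ := hs s
    obtain ⟨z, hz⟩ := (p k).surjective y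
    exact ⟨k, z, by rw [Scheme.Hom.comp_apply, hz, hy]⟩
  · rw [card_frame]
    exact inv_pow hninv _

end Groth.Agent.Sga3.H797.MkFam
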