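import Groth.Agent.Sga3.H797.TorsNhd
import Groth.Agent.Sga3B.MT.MemOps
import Groth.Agent.Sga3.H798.SubTorus

/-!
# Rigidity of the torsion of a split torus

`IsRigid i n` : infinitesimal points commuting with the `n`-torsion of `i : T ⟶ G` commute with `T`.

* `exists_finset`, `exists_pow` : over a quasi-compact base `IsRigid i n` holds for suitable `n`, e.g. for all large
  powers of a prime number.
* `isRigid_bc`, `isRigid_of_iso` : base change and conjugation.
* `comm_of_rigid` : a torus commuting with the `n`-torsion of `T` commutes with `T`.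
-/

set_option autoImplicit false
universe u
open CategoryTheory MonoidalCategory CartesianMonoidalCategory MonObj GrpObj AlgebraicGeometry Limits

namespace Groth.Agent.Sga3.H797.Rigid

open Groth.Agent.Sga3B Groth.Agent.Sga3B.DSPts Groth.Agent.Sga3B.InfConj Groth.Agent.Sga3B.InfConjFam TorsNhd

variable {S : Scheme.{u}}

/-- Infinitesimal points commuting with the `n`-torsion of `T` commute with `T`. -/
def IsRigid {T G : Over S} [GrpObj T] [GrpObj G] (i : T ⟶ G) (n : ℕ) : Prop :=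
  ∀ (B : Type u) [CommRing B] [IsLocalRing B] (I : Ideal B), I * I = ⊥ →
    ∀ x : Spec (CommRingCat.of B) ⟶ S, RigidPt i n I x

lemma range_subset_of_closedPoint {B : Type u} [CommRing B] [IsLocalRing B] (x : Spec (CommRingCat.of B) ⟶ S)
    (V : S.Opens) (h : x (IsLocalRing.closedPoint B) ∈ V) : Set.range x ⊆ V := by
  have h2 : (x ⁻¹ᵁ V) = ⊤ := (IsLocalRing.closed_point_mem_iff (U := x ⁻¹ᵁ V)).mp h
  rintro _ ⟨y, rfl⟩
  have h3 : y ∈ x ⁻¹ᵁ V := by rw [h2]; trivial
  exact h3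

section compact

variable {M : Type} [AddCommGroup M] {G : Over S} [GrpObj G] [LocallyOfFiniteType G.hom]
  (i : Red.DS S M ⟶ G) [IsMonHom i]

theorem exists_finset [CompactSpace S] : ∃ F : Finset (Multiplicative M), ∀ n : ℕ,
    (∀ m ∈ F, m ≠ 1 → ∀ m', m' ^ n ≠ m) → IsRigid i n := by
  classical
  choose V hV F hF using exists_finset_nhd i
  obtain ⟨t, ht⟩ := isCompact_univ.elim_finite_subcover (fun s => (V s : Set S)) (fun s => (V s).isOpen)
    (fun s _ => Set.mem_iUnion.mpr ⟨s, hV s⟩)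
  refine ⟨t.biUnion F, fun n hn B _ _ I hI x => ?_⟩
  obtain ⟨s, hs, hxs⟩ := Set.mem_iUnion₂.mp (ht (Set.mem_univ (x (IsLocalRing.closedPoint B))))
  exact hF s n (fun m hm => hn m (Finset.mem_biUnion.mpr ⟨s, hs, hm⟩)) B I hI x
    (range_subset_of_closedPoint x _ hxs)

end compact

lemma exists_pow_of_finset {r : ℕ} (F : Finset (Multiplicative (Fin r → ℤ))) {l : ℕ} (hl : 2 ≤ l) :
    ∃ m₀ : ℕ, ∀ m, m₀ ≤ m → ∀ a ∈ F, a ≠ 1 → ∀ a', a' ^ (l ^ m) ≠ a := by
  classical
  induction F using Finset.induction_on with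
  | empty => exact ⟨0, by simp⟩
  | insert b F hb ih =>
    obtain ⟨m₀, hm₀⟩ := ih
    by_cases h1 : b = 1
    · refine ⟨m₀, fun m hm a ha => ?_⟩
      rcases Finset.mem_insert.mp ha with rfl | ha
      · exact fun h => absurd h1 h
      · exact hm₀ m hm a ha
    · obtain ⟨j, hj⟩ : ∃ j, (Multiplicative.toAdd b) j ≠ 0 := by
        by_contra hcon
        push Not at hcon
        exact h1 (congrArg Multiplicative.ofAdd (funext hcon))
      refine ⟨max m₀ ((Multiplicative.toAdd b) j).natAbs, fun m hm a ha => ?_⟩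
      rcases Finset.mem_insert.mp ha with rfl | ha
      · intro _ a' ha'
        have h2 : (l ^ m : ℤ) * (Multiplicative.toAdd a') j = (Multiplicative.toAdd a) j := by
          rw [← ha']
          simp [toAdd_pow]
        have h3 : (l ^ m) ∣ ((Multiplicative.toAdd a) j).natAbs := by
          rw [← Int.natCast_dvd]
          exact ⟨_, by push_cast; exact h2.symm⟩
        have h4 := Nat.le_of_dvd (Int.natAbs_pos.mpr hj) h3
        have h5 : m < l ^ m := Nat.lt_pow_self hl
        have h6 := (le_max_right _ _).trans hm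
        omega
      · exact hm₀ m ((le_max_left _ _).trans hm) a ha

theorem exists_pow [CompactSpace S] {r : ℕ} {G : Over S} [GrpObj G] [LocallyOfFiniteType G.hom]
    (i : Red.DS S (Fin r → ℤ) ⟶ G) [IsMonHom i] {l : ℕ} (hl : 2 ≤ l) :
    ∃ m₀ : ℕ, ∀ m, m₀ ≤ m → IsRigid i (l ^ m) := by
  obtain ⟨F, hF⟩ := exists_finset i
  obtain ⟨m₀, hm₀⟩ := exists_pow_of_finset F hl
  exact ⟨m₀, fun m hm => hF _ (hm₀ m hm)⟩

section ops

lemma comp_pow' {𝒞 : Type*} [Category 𝒞] [CartesianMonoidalCategory 𝒞] {X G H : 𝒞} [GrpObj G] [GrpObj H]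
    (t : X ⟶ G) (f : G ⟶ H) [IsMonHom f] (n : ℕ) : (t ^ n) ≫ f = (t ≫ f) ^ n := by
  induction n with
  | zero => rw [pow_zero, pow_zero, MonObj.one_comp]
  | succ n hn => rw [pow_succ, pow_succ, MonObj.mul_comp, hn]

theorem isRigid_of_iso {T T' G G' : Over S} [GrpObj T] [GrpObj T'] [GrpObj G] [GrpObj G'] {i : T ⟶ G}
    {i' : T' ⟶ G'} (e : T' ≅ T) (c : G ≅ G') [IsMonHom e.hom] [IsMonHom c.hom] (h : e.hom ≫ i ≫ c.hom = i')
    {n : ℕ} (hi : IsRigid i n) : IsRigid i' n := by
  intro B _ _ I hI x v hv htors X y t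
  have key : ∀ (X : Over S) (y : X ⟶ Over.mk x) (t₀ : X ⟶ T),
      (((y ≫ v ≫ c.inv) * (t₀ ≫ i)) ≫ c.hom = (y ≫ v) * ((t₀ ≫ e.inv) ≫ i')) ∧
      (((t₀ ≫ i) * (y ≫ v ≫ c.inv)) ≫ c.hom = ((t₀ ≫ e.inv) ≫ i') * (y ≫ v)) := by
    intro X y t₀
    rw [MonObj.mul_comp, MonObj.mul_comp, ← h]
    simp only [Category.assoc, Iso.inv_hom_id, Iso.inv_hom_id_assoc, Category.comp_id]
    exact ⟨trivial, trivial⟩
  have h1 := hi B I hI x (v ≫ c.inv) (by rw [← Category.assoc, hv, MonObj.one_comp]) (by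
    intro X y t₀ ht₀
    rw [← cancel_mono c.hom, (key X y t₀).1, (key X y t₀).2]
    refine htors X y _ ?_
    rw [← comp_pow', ht₀, MonObj.one_comp]) X y (t ≫ e.hom)
  rw [← cancel_mono c.hom, (key X y _).1, (key X y _).2] at h1
  simp only [Category.assoc, Iso.hom_inv_id_assoc] at h1
  exact h1

theorem isRigid_bc {S' : Scheme.{u}} (q : S' ⟶ S) {T G : Over S} [GrpObj T] [GrpObj G] {i : T ⟶ G}
    {n : ℕ} (hi : IsRigid i n) : IsRigid ((Over.pullback q).map i) n := by
  intro B _ _ I hI x' v' hv' htors X' y' t'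
  let v : Over.mk (x' ≫ q) ⟶ G := (bcEquiv q (Over.mk x') G).symm v'
  have hred : redMap (x' ≫ q) I = (Over.map q).map (redMap x' I) := rfl
  have hv : redMap (x' ≫ q) I ≫ v = 1 := by
    rw [hred]
    exact (bcEquiv_symm_naturality q G (redMap x' I) v').trans (by rw [hv', map_one]; rfl)
  have key : ∀ (X' : Over S') (y' : X' ⟶ Over.mk x') (t' : X' ⟶ Red.bc q T),
      (y' ≫ v') * (t' ≫ (Over.pullback q).map i) =
        bcEquiv q X' G (((Over.map q).map y' ≫ v) * ((bcEquiv q X' T).symm t' ≫ i)) ∧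
      (t' ≫ (Over.pullback q).map i) * (y' ≫ v') =
        bcEquiv q X' G (((bcEquiv q X' T).symm t' ≫ i) * ((Over.map q).map y' ≫ v)) := by
    intro X' y' t'
    have h1 : bcEquiv q X' G ((Over.map q).map y' ≫ v) = y' ≫ v' := by
      rw [← bcEquiv_naturality]
      simp only [v, MulEquiv.apply_symm_apply]
    have h2 : bcEquiv q X' G ((bcEquiv q X' T).symm t' ≫ i) = t' ≫ (Over.pullback q).map i := by
      rw [← bcEquiv_comp, MulEquiv.apply_symm_apply]
    rw [map_mul, map_mul, h1, h2]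
    exact ⟨rfl, rfl⟩
  rw [(key X' y' t').1, (key X' y' t').2]
  congr 1
  refine hi B I hI (x' ≫ q) v hv ?_ _ _ _
  intro X y t ht
  let X'' : Over S' := Over.mk (y.left ≫ x')
  let e : (Over.map q).obj X'' ≅ X := Over.isoMk (Iso.refl _) (by
    change 𝟙 _ ≫ X.hom = (y.left ≫ x') ≫ q
    rw [Category.id_comp, Category.assoc]
    exact (Over.w y).symm)
  let y'' : X'' ⟶ Over.mk x' := Over.homMk y.left
  have he : e.hom ≫ y = (Over.map q).map y'' := by
    ext1
    exact Category.id_comp _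
  have h1 := htors X'' y'' (bcEquiv q X'' T (e.hom ≫ t)) (by
    rw [← map_pow, ← MonObj.comp_pow, ht, MonObj.comp_one, map_one])
  rw [(key X'' y'' _).1, (key X'' y'' _).2, MulEquiv.symm_apply_apply, EmbeddingLike.apply_eq_iff_eq, ← he] at h1
  simp only [Category.assoc, ← MonObj.comp_mul] at h1
  rwa [cancel_epi] at h1

end ops

section comm

open CentRep CentLift

/-- A clopen subset of a geometrically irreducible universally open group containing the unit section is everything. -/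
lemma eq_univ_of_isClopen {R : Over S} [GrpObj R] [Smooth R.hom] [GeometricallyIrreducible R.hom]
    {C : Set R.left} (hC : IsClopen C) (h1 : Set.range (η[R] : 𝟙_ (Over S) ⟶ R).left ⊆ C) : C = Set.univ := by
  rw [Set.eq_univ_iff_forall]
  intro x
  let π : R.left ⟶ S := R.hom
  let e : S ⟶ R.left := (η[R] : 𝟙_ (Over S) ⟶ R).left
  have he : ∀ y, π (e y) = y := fun y => by
    rw [← Scheme.Hom.comp_apply, show e ≫ π = 𝟙 S from Over.w η[R]]
    rfl
  have hirr : _root_.IsIrreducible (π ⁻¹' {π x}) :=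
    Scheme.Hom.isIrreducible_preimage (f := π) π.isOpenMap isIrreducible_singleton
  exact hirr.isConnected.isPreconnected.subset_isClopen hC ⟨e (π x), he _, h1 ⟨π x, rfl⟩⟩ rfl

variable {T R G : Over S} [GrpObj T] [GrpObj R] [GrpObj G] (i : T ⟶ G) [IsMonHom i] (j : R ⟶ G) [IsMonHom j]
  [IsSeparated G.hom] [LocallyOfFiniteType G.hom]

/-- **Rigidity.** A torus commuting with the `n`-torsion of `T` commutes with `T`. -/
theorem comm_of_rigid {M : Type} [AddCommGroup M] (hT : Red.IsTorus T) (hsp : Red.IsSplitTorusWith M T)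
    (hR : Red.IsTorus R) {n : ℕ} (hi : IsRigid i n)
    (h : ∀ (X : Over S) (r : X ⟶ R) (t : X ⟶ T), t ^ n = 1 → (r ≫ j) * (t ≫ i) = (t ≫ i) * (r ≫ j)) :
    ∀ (X : Over S) (r : X ⟶ R) (t : X ⟶ T), (r ≫ j) * (t ≫ i) = (t ≫ i) * (r ≫ j) := by
  have := TorusAlgClosed.smooth_of_isTorus hT
  have := TorusIrr.geometricallyIrreducible_of_isTorus hT
  have := TorusAlgClosed.smooth_of_isTorus hR
  have := TorusIrr.geometricallyIrreducible_of_isTorus hR
  have h1 : IsClosedImmersion η[G].left := (S0346.result S G).1.mp inferInstance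
  obtain ⟨Z, z, hz, huniv, hfp⟩ := exists_closed_map (X := R) (Q := T)
    ((fst R T ≫ j) * (snd R T ≫ i) * (fst R T ≫ j)⁻¹ * (snd R T ≫ i)⁻¹) η[G]
  have key : ∀ (X : Over S) (r : X ⟶ R), (∃ a : X ⟶ Z, a ≫ z = r) ↔ r ≫ j ∈ centPts i X := by
    intro X r
    rw [huniv, mem_centPts]
    refine forall_congr' fun T' => forall_congr' fun x => forall_congr' fun t => ?_
    have e : lift (x ≫ r) t ≫ ((fst R T ≫ j) * (snd R T ≫ i) * (fst R T ≫ j)⁻¹ * (snd R T ≫ i)⁻¹) =
        (x ≫ r ≫ j) * (t ≫ i) * (x ≫ r ≫ j)⁻¹ * (t ≫ i)⁻¹ := by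
      simp only [MonObj.comp_mul, GrpObj.comp_inv, lift_fst_assoc, lift_snd_assoc, Category.assoc]
    rw [e]
    constructor
    · rintro ⟨b, hb⟩
      have e2 : b ≫ η[G] = 1 := by rw [one_eq_one, MonObj.comp_one]
      rw [e2, eq_comm, mul_inv_eq_one, mul_inv_eq_iff_eq_mul] at hb
      exact hb
    · intro h
      refine ⟨toUnit _, ?_⟩
      have e2 : toUnit T' ≫ η[G] = 1 := by rw [one_eq_one, MonObj.comp_one]
      rw [e2, eq_comm, mul_inv_eq_one, mul_inv_eq_iff_eq_mul]
      exact h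
  have hlfp : LocallyOfFinitePresentation z.left := hfp locallyOfFinitePresentation_one
  have hmono : Mono z := Over.mono_of_mono_left z
  have hsm : Smooth z.left := by
    apply LocalLift.smooth_of_local_lift
    intro B _ _ I hI α β hαβ
    let x : Spec (CommRingCat.of B) ⟶ S := β ≫ R.hom
    let g : Over.mk x ⟶ R := Over.homMk β
    let α₀ : Over.mk (Spec.map (CommRingCat.ofHom (Ideal.Quotient.mk I)) ≫ x) ⟶ Z := Over.homMk α (by
      change α ≫ Z.hom = Spec.map _ ≫ β ≫ R.hom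
      rw [← Category.assoc, hαβ, Category.assoc, Over.w])
    have hα₀ : α₀ ≫ z = redMap x I ≫ g := Over.OverMorphism.ext hαβ.symm
    obtain ⟨w, hw1, hw2⟩ := cent_lift i I hI x (TorusAlgClosed.isSplitTorusWith_bc x hsp) (g ≫ j) (by
      have h8 := (key _ _).1 ⟨α₀, rfl⟩
      rw [hα₀] at h8
      rwa [Category.assoc] at h8)
    rw [mem_centPts] at hw2
    have hw3 : w ∈ centPts i _ := by
      rw [mem_centPts]
      refine hi B I hI x w hw1 ?_
      intro X y t ht
      have h2 := hw2 X y t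
      have h3 := h X (y ≫ g) t ht
      rw [MonObj.comp_mul, GrpObj.comp_inv] at h2
      rw [Category.assoc] at h3
      have h4 : Commute ((y ≫ w)⁻¹ * (y ≫ g ≫ j)) (t ≫ i) := h2
      have h5 : Commute (y ≫ g ≫ j) (t ≫ i) := h3
      have h6 : Commute ((y ≫ w)⁻¹) (t ≫ i) := by
        have h7 := h4.mul_left h5.inv_left
        rwa [mul_inv_cancel_right] at h7
      exact (Commute.inv_left_iff.mp h6).eq
    have hw4 : g ≫ j ∈ centPts i _ := by
      have h2 := mul_mem hw3 (show w⁻¹ * (g ≫ j) ∈ centPts i _ from hw2)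
      rwa [mul_inv_cancel_left] at h2
    obtain ⟨a, ha⟩ := (key _ _).2 hw4
    refine ⟨a.left, ?_, congrArg CommaMorphism.left ha⟩
    have h5 : redMap x I ≫ a = α₀ := by
      rw [← cancel_mono z, Category.assoc, ha, hα₀]
    exact congrArg CommaMorphism.left h5
  have hopen : IsOpenImmersion z.left := IsOpenImmersion.of_flat_of_mono z.left
  have hclopen : IsClopen (Set.range z.left) :=
    ⟨hz.isClosedEmbedding.isClosed_range, z.left.isOpenEmbedding.isOpen_range⟩
  have hone : Set.range (η[R] : 𝟙_ (Over S) ⟶ R).left ⊆ Set.range z.left := by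
    obtain ⟨a, ha⟩ := (key (𝟙_ (Over S)) η[R]).2 (by
      have h2 : (η[R] : 𝟙_ (Over S) ⟶ R) ≫ j = 1 := by rw [one_eq_one, MonObj.one_comp]
      rw [h2]
      exact one_mem _)
    rw [← ha, Over.comp_left]
    rintro _ ⟨y, rfl⟩
    exact ⟨a.left y, (Scheme.Hom.comp_apply _ _ _).symm⟩
  have huniv' := eq_univ_of_isClopen hclopen hone
  have hsurj : Surjective z.left := ⟨Set.range_eq_univ.mp huniv'⟩
  have hiso : IsIso z.left := (isIso_iff_isOpenImmersion_and_surjective _).2 ⟨hopen, hsurj⟩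
  have hiso' : IsIso z := (Over.isoMk (asIso z.left) (Over.w z)).isIso_hom
  intro X r t
  have h3 := (key X r).1 ⟨r ≫ inv z, by simp⟩
  rw [mem_centPts] at h3
  have h4 := h3 X (𝟙 X) t
  rwa [Category.id_comp] at h4

end comm

end Groth.Agent.Sga3.H797.Rigid
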