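import Groth.Agent.Sga3.H797.Good

/-!
# Conjugacy of rigidified maximal tori at geometric points; saturation of the orbit locus
-/

set_option autoImplicit false
universe u
open CategoryTheory MonoidalCategory CartesianMonoidalCategory MonObj GrpObj AlgebraicGeometry Limits

namespace Groth.Agent.Sga3.H797.Sat

open Groth.Agent.Sga3B Groth.Agent.Sga3B.BcPts Groth.Agent.Sga3B.MT Groth.Agent.Sga3B.RedIso
  Groth.Agent.Sga3.H828 TorsNhd Rigid Good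

variable {S : Scheme.{u}} {G : Over S} [GrpObj G]

section pt

variable {K : Type u} [Field K]

omit [GrpObj G] in
/-- On the spectrum of a field local equality is equality. -/
lemma eq_of_res {y : Spec (CommRingCat.of K) ⟶ S} {U : (Over.mk y).left.Opens}
    (hU : IsLocalRing.closedPoint K ∈ U) {g g' : Over.mk y ⟶ G} (h : res (Over.mk y) U ≫ g = res (Over.mk y) U ≫ g') :
    g = g' := by
  have h1 : Surjective U.ι := by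
    constructor
    intro z
    have hz : z ∈ Set.range U.ι := by
      rw [Scheme.Opens.range_ι, Subsingleton.elim (α := PrimeSpectrum K) z (IsLocalRing.closedPoint K)]
      exact hU
    exact hz
  have h2 : IsIso U.ι := (isIso_iff_isOpenImmersion_and_surjective _).2 ⟨inferInstance, h1⟩
  ext1
  have h3 := congrArg CommaMorphism.left h
  change U.ι ≫ g.left = U.ι ≫ g'.left at h3
  rwa [cancel_epi] at h3

variable [IsAlgClosed K] [LocallyOfFiniteType G.hom] {y : Spec (CommRingCat.of K) ⟶ S} {Γ₁ Γ₂ : Type}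
  [Group Γ₁] [Group Γ₂] {T₁ T₂ : Over (Spec (CommRingCat.of K))} [GrpObj T₁] [GrpObj T₂] {n : ℕ}
  {φ₁ : Γ₁ →* (Over.mk y ⟶ G)} {φ₂ : Γ₂ →* (Over.mk y ⟶ G)} {t₁ : T₁ ⟶ Red.bc y G} {t₂ : T₂ ⟶ Red.bc y G}

omit [IsAlgClosed K] [LocallyOfFiniteType G.hom] in
lemma exists_eq {Γ : Type} {T : Over (Spec (CommRingCat.of K))} [GrpObj T] {φ : Γ → (Over.mk y ⟶ G)}
    {t : T ⟶ Red.bc y G} (h : Good n φ t) (g : Over.mk y ⟶ G) (hg : MemAt t (𝟙 _) g) (hn : g ^ n = 1) :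
    ∃ γ, g = φ γ := by
  obtain ⟨U, hU, γ, hγ⟩ := h.gen _ (𝟙 _) g hg hn (IsLocalRing.closedPoint K)
  rw [Category.id_comp] at hγ
  exact ⟨γ, eq_of_res hU hγ⟩

theorem exists_conj_pt (h₁ : Good n φ₁ t₁) (h₂ : Good n φ₂ t₂) (i₁ : Function.Injective φ₁)
    (i₂ : Function.Injective φ₂) :
    ∃ (a : Γ₁ ≃* Γ₂) (c : Over.mk y ⟶ G), ∀ γ, c * φ₁ γ * c⁻¹ = φ₂ (a γ) := by
  have : LocallyOfFiniteType (Red.bc y G).hom := inferInstanceAs (LocallyOfFiniteType (pullback.snd G.hom y))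
  obtain ⟨g, ψ, hψ⟩ := Groth.Agent.Sga3.H784.NAMain.exists_conjBy t₁ t₂ h₁.max h₂.max
  let c : Over.mk y ⟶ G := (overIso (𝟙 (Over.mk y))).inv ≫ (bcEquiv y _ G).symm (toUnit _ ≫ g)
  have hc : bcPt (𝟙 (Over.mk y)) c = toUnit _ ≫ g := by
    simp only [bcPt, c, Iso.hom_inv_id_assoc, Equiv.apply_symm_apply]
  have hcj : t₁ ≫ cj c = ψ.hom ≫ t₂ := by
    rw [comp_cj, hc, ← Category.assoc, toUnit_unique (toE y T₁ ≫ toUnit _) (toUnit T₁), hψ]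
  have h₃ := h₁.conj c
  have hmem : ∀ g' : Over.mk y ⟶ G, MemAt (t₁ ≫ cj c) (𝟙 _) g' ↔ MemAt t₂ (𝟙 _) g' := by
    intro g'
    rw [hcj, memAt_iff, memAt_iff]
    constructor
    · rintro ⟨x, hx⟩
      exact ⟨x ≫ ψ.hom, by rw [Category.assoc, hx]⟩
    · rintro ⟨x, hx⟩
      exact ⟨x ≫ ψ.inv, by rw [Category.assoc, Iso.inv_hom_id_assoc, hx]⟩
  have h4 : ∀ γ, ∃ γ', c * φ₁ γ * c⁻¹ = φ₂ γ' := fun γ =>
    exists_eq h₂ _ ((hmem _).1 (h₃.mem γ)) (h₃.pow γ)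
  choose a ha using h4
  have h5 : ∀ γ', ∃ γ, φ₂ γ' = c * φ₁ γ * c⁻¹ := fun γ' =>
    exists_eq h₃ _ ((hmem _).2 (h₂.mem γ')) (h₂.pow γ')
  let a' : Γ₁ →* Γ₂ := MonoidHom.mk' a (fun γ γ' => i₂ (by
    rw [← ha, map_mul, map_mul, ← ha, ← ha]
    group))
  refine ⟨MulEquiv.ofBijective a' ⟨fun γ γ' h => i₁ ?_, fun γ' => ?_⟩, c, ha⟩
  · have h6 : c * φ₁ γ * c⁻¹ = c * φ₁ γ' * c⁻¹ := by
      rw [ha, ha]
      exact congrArg φ₂ h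
    exact mul_left_cancel (mul_right_cancel h6)
  · obtain ⟨γ, hγ⟩ := h5 γ'
    refine ⟨γ, i₂ ?_⟩
    rw [hγ]
    exact (ha γ).symm

end pt

/-- Composition with a homomorphism of points. -/
noncomputable def pre {X Y : Over S} (a : X ⟶ Y) {Γ : Type} [Group Γ] (φ : Γ →* (Y ⟶ G)) : Γ →* (X ⟶ G) :=
  MonoidHom.mk' (fun γ => a ≫ φ γ) (fun γ γ' => by rw [map_mul, MonObj.comp_mul])

/-- **Conjugacy at geometric points**, for tori over different bases. -/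
theorem exists_conj_geom [LocallyOfFiniteType G.hom] {K : Type u} [Field K] [IsAlgClosed K]
    {y : Spec (CommRingCat.of K) ⟶ S} {S₁ S₂ : Scheme.{u}} {f₁ : S₁ ⟶ S} {f₂ : S₂ ⟶ S} {T₁ : Over S₁}
    {T₂ : Over S₂} [GrpObj T₁] [GrpObj T₂] {t₁ : T₁ ⟶ Red.bc f₁ G} {t₂ : T₂ ⟶ Red.bc f₂ G}
    {Γ₁ Γ₂ : Type} [Group Γ₁] [Group Γ₂] {n : ℕ} {φ₁ : Γ₁ →* (Over.mk f₁ ⟶ G)} {φ₂ : Γ₂ →* (Over.mk f₂ ⟶ G)}
    (h₁ : Good n φ₁ t₁) (h₂ : Good n φ₂ t₂) (a₁ : Over.mk y ⟶ Over.mk f₁) (a₂ : Over.mk y ⟶ Over.mk f₂)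
    (i₁ : Function.Injective (fun γ => a₁ ≫ φ₁ γ)) (i₂ : Function.Injective (fun γ => a₂ ≫ φ₂ γ)) :
    ∃ (a : Γ₁ ≃* Γ₂) (c : Over.mk y ⟶ G), ∀ γ, c * (a₁ ≫ φ₁ γ) * c⁻¹ = a₂ ≫ φ₂ (a γ) := by
  obtain ⟨T₁', _, t₁', H₁, -⟩ := h₁.exists_bc y a₁.left (Over.w a₁)
  obtain ⟨T₂', _, t₂', H₂, -⟩ := h₂.exists_bc y a₂.left (Over.w a₂)
  exact exists_conj_pt (φ₁ := pre a₁ φ₁) (φ₂ := pre a₂ φ₂) H₁ H₂ i₁ i₂

end Groth.Agent.Sga3.H797.Sat
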