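import Mathlib.Algebra.MonoidAlgebra.Basic
import Mathlib.RingTheory.Ideal.Quotient.Operations
import Mathlib.RingTheory.FiniteType
import Mathlib.Tactic.LinearCombination

/-!
# Weights of a diagonalizable group on the first infinitesimal neighbourhood of the unit section: algebra

`θ : D → D₁[Γ]` is a coaction in a weak sense. If an infinitesimal point `ξ` is fixed by the `n`-torsion and no
nontrivial weight of `θ` is an `n`-th power, then it is fixed by everything.
-/

set_option autoImplicit false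
universe u

namespace Groth.Agent.Sga3.H797.TorsAlg

variable {C : Type*} [CommRing C] {Γ : Type*} [CommGroup Γ]

/-- `A[Γ] → E` attached to `f : A → E` and `χ : Γ → E`. -/
noncomputable def phi {A E : Type*} [CommRing A] [Algebra C A] [CommRing E] [Algebra C E] (f : A →ₐ[C] E) (χ : Γ →* E) :
    MonoidAlgebra A Γ →ₐ[C] E :=
  MonoidAlgebra.liftNCAlgHom f χ (fun _ _ => Commute.all _ _)

section

variable {A E : Type*} [CommRing A] [Algebra C A] [CommRing E] [Algebra C E] (f : A →ₐ[C] E) (χ : Γ →* E)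

@[simp] lemma phi_single (m : Γ) (a : A) : phi f χ (MonoidAlgebra.single m a) = f a * χ m := by
  unfold phi
  rw [MonoidAlgebra.coe_liftNCAlgHom]
  exact MonoidAlgebra.liftNC_single _ _ _ _

lemma eq_sum (x : MonoidAlgebra A Γ) : x = ∑ m ∈ x.coeff.support, MonoidAlgebra.single m (x.coeff m) := by
  apply MonoidAlgebra.coeff_injective
  rw [MonoidAlgebra.coeff_sum]
  simp only [MonoidAlgebra.coeff_single]
  exact (Finsupp.sum_single x.coeff).symm

lemma phi_apply (x : MonoidAlgebra A Γ) : phi f χ x = ∑ m ∈ x.coeff.support, f (x.coeff m) * χ m := by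
  conv_lhs => rw [eq_sum x, map_sum]
  simp only [phi_single]

lemma phi_comp_algebraMap : (phi f χ).comp (IsScalarTower.toAlgHom C A (MonoidAlgebra A Γ)) = f := by
  apply AlgHom.ext
  intro a
  change phi f χ (algebraMap A _ a) = f a
  rw [MonoidAlgebra.coe_algebraMap]
  simp

lemma phi_of (m : Γ) : phi f χ (MonoidAlgebra.of A Γ m) = χ m := by
  simp

lemma comp_phi {E' : Type*} [CommRing E'] [Algebra C E'] (g : E →ₐ[C] E') :
    g.comp (phi f χ) = phi (g.comp f) ((g : E →* E').comp χ) := by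
  apply AlgHom.ext
  intro x
  rw [AlgHom.comp_apply, phi_apply, phi_apply, map_sum]
  refine Finset.sum_congr rfl fun m _ => ?_
  rw [map_mul]
  rfl

end

variable {D D₁ : Type*} [CommRing D] [Algebra C D] [CommRing D₁] [Algebra C D₁] {mk : D →ₐ[C] D₁}
  (hmk : Function.Surjective mk)
  {θ : D →ₐ[C] MonoidAlgebra D₁ Γ} {θb : D₁ →ₐ[C] MonoidAlgebra D₁ Γ} (hθ : ∀ d, θb (mk d) = θ d)
  (hcounit : ∀ d, phi (AlgHom.id C D₁) 1 (θ d) = mk d)
  (hcoact : ∀ d m, θb ((θ d).coeff m) = MonoidAlgebra.single m ((θ d).coeff m))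

include hmk hθ hcounit hcoact in
/-- An infinitesimal point fixed by the torsion is fixed. -/
theorem fixed_of_torsion {B : Type*} [CommRing B] [Algebra C B] (ξ : D₁ →ₐ[C] B) {Γ' : Type*} [CommGroup Γ']
    (p : Γ →* Γ')
    (htors : ∀ d, phi ((IsScalarTower.toAlgHom C B (MonoidAlgebra B Γ')).comp ξ) ((MonoidAlgebra.of B Γ').comp p) (θ d) =
      algebraMap B (MonoidAlgebra B Γ') (ξ (mk d)))
    (hgood : ∀ m : Γ, m ≠ 1 → p m = 1 → ∀ d, (θ d).coeff m = 0)
    {E : Type*} [CommRing E] [Algebra C E] (f : B →ₐ[C] E) (χ : Γ →* E) (d : D) :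
    phi (f.comp ξ) χ (θ d) = f (ξ (mk d)) := by
  classical
  have h0 : ∀ m : Γ, m ≠ 1 → ξ ((θ d).coeff m) = 0 := by
    intro m hm
    by_cases hp : p m = 1
    · rw [hgood m hm hp, map_zero]
    · obtain ⟨e, he⟩ := hmk ((θ d).coeff m)
      have h1 := htors e
      rw [← hθ, he, hcoact, phi_single, MonoidAlgebra.coe_algebraMap] at h1
      have h2 : (algebraMap B (MonoidAlgebra B Γ') (ξ ((θ d).coeff m))) * MonoidAlgebra.of B Γ' (p m) =
          MonoidAlgebra.single 1 (ξ ((θ d).coeff m)) := h1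
      rw [MonoidAlgebra.coe_algebraMap] at h2
      simp only [Function.comp_apply, Algebra.algebraMap_self, RingHom.id_apply, MonoidAlgebra.of_apply,
        MonoidAlgebra.single_mul_single, _root_.one_mul, _root_.mul_one] at h2
      have h3 := congrArg (fun x => x.coeff 1) h2
      simp only [MonoidAlgebra.coeff_single, Finsupp.single_eq_same] at h3
      rw [Finsupp.single_eq_of_ne (Ne.symm hp)] at h3
      exact h3.symm
  have h1 : phi (f.comp ξ) χ (θ d) = f (ξ ((θ d).coeff 1)) := by
    rw [phi_apply]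
    by_cases h : (1 : Γ) ∈ (θ d).coeff.support
    · rw [Finset.sum_eq_single_of_mem 1 h]
      · simp
      · intro m _ hm
        rw [AlgHom.comp_apply, h0 m hm, map_zero, zero_mul]
    · rw [Finsupp.notMem_support_iff.1 h, map_zero, map_zero]
      refine Finset.sum_eq_zero fun m hm => ?_
      have : m ≠ 1 := by rintro rfl; exact h hm
      rw [AlgHom.comp_apply, h0 m this, map_zero, zero_mul]
  have h2 : ξ (mk d) = ξ ((θ d).coeff 1) := by
    rw [← hcounit d, phi_apply, map_sum]
    by_cases h : (1 : Γ) ∈ (θ d).coeff.support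
    · rw [Finset.sum_eq_single_of_mem 1 h]
      · simp
      · intro m _ hm
        rw [map_mul, AlgHom.id_apply, h0 m hm, zero_mul]
    · rw [Finsupp.notMem_support_iff.1 h, map_zero]
      refine Finset.sum_eq_zero fun m hm => ?_
      have : m ≠ 1 := by rintro rfl; exact h hm
      rw [map_mul, AlgHom.id_apply, h0 m this, zero_mul]
  rw [h1, h2]

/-- The weights of `θ` form a finite set. -/
theorem exists_finset [Algebra.FiniteType C D] (θ : D →ₐ[C] MonoidAlgebra D₁ Γ) (ε : D →ₐ[C] C)
    (J : Ideal (MonoidAlgebra D₁ Γ)) (hJ : J * J = ⊥)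
    (hθ : ∀ d, θ d - algebraMap C _ (ε d) ∈ J) :
    ∃ F : Finset Γ, ∀ m : Γ, m ≠ 1 → m ∉ F → ∀ d, (θ d).coeff m = 0 := by
  classical
  obtain ⟨s, hs⟩ := (Algebra.FiniteType.out : (⊤ : Subalgebra C D).FG)
  have hcoeff : ∀ (c : C) (m : Γ), m ≠ 1 → (algebraMap C (MonoidAlgebra D₁ Γ) c).coeff m = 0 := by
    intro c m hm
    rw [MonoidAlgebra.coe_algebraMap]
    simp only [Function.comp_apply, MonoidAlgebra.coeff_single]
    exact Finsupp.single_eq_of_ne hm
  let F : Finset Γ := s.biUnion (fun d => (θ d).coeff.support)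
  refine ⟨F, fun m hm hF d => ?_⟩
  have hd : d ∈ Algebra.adjoin C (s : Set D) := by rw [hs]; trivial
  induction hd using Algebra.adjoin_induction with
  | mem x hx =>
    by_contra h
    exact hF (Finset.mem_biUnion.2 ⟨x, hx, Finsupp.mem_support_iff.2 h⟩)
  | algebraMap r =>
    rw [AlgHom.commutes]
    exact hcoeff r m hm
  | add x y _ _ hx hy =>
    rw [map_add, MonoidAlgebra.coeff_add, Finsupp.add_apply, hx, hy, add_zero]
  | mul x y _ _ hx hy =>
    have h1 : (θ x - algebraMap C _ (ε x)) * (θ y - algebraMap C _ (ε y)) = 0 := by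
      have := Ideal.mul_mem_mul (hθ x) (hθ y)
      rw [hJ] at this
      simpa using this
    have h2 : θ (x * y) = ε x • θ y + ε y • θ x - (ε x * ε y) • 1 := by
      rw [map_mul]
      simp only [Algebra.smul_def, map_mul, _root_.mul_one]
      linear_combination h1
    have h3 : (1 : MonoidAlgebra D₁ Γ).coeff m = 0 := by
      rw [MonoidAlgebra.one_def, MonoidAlgebra.coeff_single]
      exact Finsupp.single_eq_of_ne hm
    rw [h2]
    change (ε x • θ y + ε y • θ x - (ε x * ε y) • (1 : MonoidAlgebra D₁ Γ)).coeff m = 0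
    rw [sub_eq_add_neg, ← neg_smul, MonoidAlgebra.coeff_add, MonoidAlgebra.coeff_add, MonoidAlgebra.coeff_smul,
      MonoidAlgebra.coeff_smul, MonoidAlgebra.coeff_smul, Finsupp.add_apply, Finsupp.add_apply, Finsupp.smul_apply,
      Finsupp.smul_apply, Finsupp.smul_apply, hx, hy, h3, smul_zero, smul_zero, smul_zero, add_zero, add_zero]

end Groth.Agent.Sga3.H797.TorsAlg
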