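import Groth.Agent.Sga3.H797.InfChart
import Groth.Agent.Sga3.H797.TorsAlg

/-!
# Infinitesimal points commuting with the torsion of a split torus, affine base

`G` a group scheme over `Spec C` with an affine neighbourhood of finite type of the unit section, `i : D(M) ⟶ G` a
homomorphism. There is a finite set `F` of characters such that for all `n` with no nontrivial element of `F` an `n`-th
multiple: a point of `G(B)` which is trivial modulo a square zero ideal and commutes with the `n`-torsion points of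
`D(M)` commutes with `D(M)`.
-/

set_option autoImplicit false
universe u
open CategoryTheory MonoidalCategory CartesianMonoidalCategory MonObj GrpObj AlgebraicGeometry Limits

namespace Groth.Agent.Sga3.H797.TorsInf

open Groth.Agent.Sga3B.DSPts Groth.Agent.Sga3B.InfConj Groth.Agent.Sga3B.InfConjFam InfChart TorsAlg

variable {C : Type u} [CommRing C]

section coeff

variable {Γ : Type} [CommGroup Γ] {A : Type u} [CommRing A] [Algebra C A]

lemma coeff_phi_of (g : A →ₐ[C] MonoidAlgebra A Γ) (x : MonoidAlgebra A Γ) (m : Γ) :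
    (phi ((IsScalarTower.toAlgHom C (MonoidAlgebra A Γ) (MonoidAlgebra (MonoidAlgebra A Γ) Γ)).comp g)
      (MonoidAlgebra.of (MonoidAlgebra A Γ) Γ) x).coeff m = g (x.coeff m) := by
  classical
  induction x using MonoidAlgebra.induction_linear with
  | zero => simp
  | add x y hx hy =>
    rw [map_add, MonoidAlgebra.coeff_add, MonoidAlgebra.coeff_add, Finsupp.add_apply, Finsupp.add_apply, hx, hy,
      map_add]
  | single a b =>
    rw [phi_single]
    change ((algebraMap (MonoidAlgebra A Γ) (MonoidAlgebra (MonoidAlgebra A Γ) Γ) (g b)) *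
      MonoidAlgebra.single a 1).coeff m = _
    rw [MonoidAlgebra.coe_algebraMap]
    simp only [Function.comp_apply, Algebra.algebraMap_self, RingHom.id_apply,
      MonoidAlgebra.single_mul_single, _root_.one_mul, _root_.mul_one, MonoidAlgebra.coeff_single]
    by_cases h : a = m
    · subst h
      simp
    · rw [Finsupp.single_eq_of_ne (Ne.symm h), Finsupp.single_eq_of_ne (Ne.symm h), map_zero]

lemma coeff_phi_mul (x : MonoidAlgebra A Γ) (m : Γ) :
    (phi ((IsScalarTower.toAlgHom C (MonoidAlgebra A Γ) (MonoidAlgebra (MonoidAlgebra A Γ) Γ)).comp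
        (IsScalarTower.toAlgHom C A (MonoidAlgebra A Γ)))
      (MonoidAlgebra.of (MonoidAlgebra A Γ) Γ *
        ((IsScalarTower.toAlgHom C (MonoidAlgebra A Γ) (MonoidAlgebra (MonoidAlgebra A Γ) Γ)) : _ →* _).comp
          (MonoidAlgebra.of A Γ)) x).coeff m = MonoidAlgebra.single m (x.coeff m) := by
  classical
  induction x using MonoidAlgebra.induction_linear with
  | zero => simp
  | add x y hx hy =>
    rw [map_add, MonoidAlgebra.coeff_add, MonoidAlgebra.coeff_add, Finsupp.add_apply, Finsupp.add_apply, hx, hy,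
      MonoidAlgebra.single_add]
  | single a b =>
    rw [phi_single]
    change ((algebraMap (MonoidAlgebra A Γ) (MonoidAlgebra (MonoidAlgebra A Γ) Γ) (algebraMap A _ b)) *
      (MonoidAlgebra.single a 1 *
        (algebraMap (MonoidAlgebra A Γ) (MonoidAlgebra (MonoidAlgebra A Γ) Γ) (MonoidAlgebra.single a 1)))).coeff m = _
    rw [MonoidAlgebra.coe_algebraMap, MonoidAlgebra.coe_algebraMap]
    simp only [Function.comp_apply, Algebra.algebraMap_self, RingHom.id_apply,
      MonoidAlgebra.single_mul_single, _root_.one_mul, _root_.mul_one, MonoidAlgebra.coeff_single]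
    by_cases h : a = m
    · subst h
      simp
    · rw [Finsupp.single_eq_of_ne (Ne.symm h), Finsupp.single_eq_of_ne (Ne.symm h), MonoidAlgebra.single_zero]

end coeff

variable {G : Over (Spec (CommRingCat.of C))} [GrpObj G] (U : UChart G) {M : Type} [AddCommGroup M]

/-- the augmentation ideal -/
abbrev augI : Ideal U.D := RingHom.ker U.ε

/-- first infinitesimal neighbourhood -/
def D₁ : Type u := U.D ⧸ (augI U * augI U)

noncomputable instance : CommRing (D₁ U) := inferInstanceAs (CommRing (U.D ⧸ (augI U * augI U)))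

noncomputable instance : Algebra C (D₁ U) := inferInstanceAs (Algebra C (U.D ⧸ (augI U * augI U)))

/-- the quotient map -/
noncomputable def mk₁ : U.D →ₐ[C] D₁ U := Ideal.Quotient.mkₐ C (augI U * augI U)

lemma mk₁_surjective : Function.Surjective (mk₁ U) := Ideal.Quotient.mkₐ_surjective C _

lemma mk₁_eq_zero {d : U.D} (hd : d ∈ augI U * augI U) : mk₁ U d = 0 :=
  Ideal.Quotient.eq_zero_iff_mem.2 hd

/-- `Spec D₁ ⟶ G`. -/
noncomputable def u₀ : pt C (D₁ U) ⟶ G := toPt U (mk₁ U)

lemma charPt_one {E : Type u} [CommRing E] [Algebra C E] :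
    charPt (C := C) (M := M) (1 : Multiplicative M →* E) = 1 := by
  unfold charPt
  rw [MonoidHom.comp_one]
  exact map_one (dsEquiv (pt C E) M)

/-- maps killing the square of the augmentation ideal -/
noncomputable def desc {E : Type u} [CommRing E] [Algebra C E] (J : Ideal E) (hJ : J * J = ⊥) (ξ : U.D →ₐ[C] E)
    (hξ : ∀ d, ξ d - algebraMap C E (U.ε d) ∈ J) : D₁ U →ₐ[C] E :=
  Ideal.Quotient.liftₐ (augI U * augI U) ξ (by
    intro a ha
    have h1 : augI U * augI U ≤ (J * J).comap ξ := by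
      rw [Ideal.mul_le]
      intro r hr s hs
      rw [Ideal.mem_comap, map_mul]
      refine Ideal.mul_mem_mul ?_ ?_
      · have h := hξ r
        have h0 : U.ε r = 0 := hr
        rwa [h0, map_zero, sub_zero] at h
      · have h := hξ s
        have h0 : U.ε s = 0 := hs
        rwa [h0, map_zero, sub_zero] at h
    have h2 := h1 ha
    rw [hJ] at h2
    exact h2)

lemma desc_mk {E : Type u} [CommRing E] [Algebra C E] (J : Ideal E) (hJ : J * J = ⊥) (ξ : U.D →ₐ[C] E)
    (hξ : ∀ d, ξ d - algebraMap C E (U.ε d) ∈ J) (d : U.D) :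
    desc U J hJ ξ hξ (mk₁ U d) = ξ d := rfl

lemma ptMap_desc {E : Type u} [CommRing E] [Algebra C E] (J : Ideal E) (hJ : J * J = ⊥) (ξ : U.D →ₐ[C] E)
    (hξ : ∀ d, ξ d - algebraMap C E (U.ε d) ∈ J) : ptMap (desc U J hJ ξ hξ) ≫ u₀ U = toPt U ξ := by
  rw [u₀, ptMap_toPt]
  rfl

variable (i : Red.DS (Spec (CommRingCat.of C)) M ⟶ G) [IsMonHom i]

/-- the first infinitesimal neighbourhood over `D(M)`. -/
abbrev R₁ (M : Type) [AddCommGroup M] : Type u := MonoidAlgebra (D₁ U) (Multiplicative M)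

/-- the extended augmentation ideal -/
noncomputable abbrev J₁ (M : Type) [AddCommGroup M] : Ideal (R₁ U M) :=
  ((augI U).map (mk₁ U)).map (algebraMap (D₁ U) (R₁ U M))

lemma J₁_mul : J₁ U M * J₁ U M = ⊥ := by
  rw [J₁, ← Ideal.map_mul, ← Ideal.map_mul, show (augI U * augI U).map (mk₁ U) = ⊥ from ?_, Ideal.map_bot]
  rw [eq_bot_iff, Ideal.map_le_iff_le_comap]
  intro d hd
  exact mk₁_eq_zero U hd

/-- the universal conjugate -/
noncomputable def τ : pt C (R₁ U M) ⟶ G :=
  (charPt (MonoidAlgebra.of (D₁ U) (Multiplicative M)) ≫ i) *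
    (ptMap (IsScalarTower.toAlgHom C (D₁ U) (R₁ U M)) ≫ u₀ U) *
    (charPt (MonoidAlgebra.of (D₁ U) (Multiplicative M)) ≫ i)⁻¹

omit [IsMonHom i] in
lemma τ_inf : ptMap (E := R₁ U M) (E' := R₁ U M ⧸ J₁ U M) (Ideal.Quotient.mkₐ C (J₁ U M)) ≫ τ U i = 1 := by
  have h : ptMap (E := R₁ U M) (E' := R₁ U M ⧸ J₁ U M) (Ideal.Quotient.mkₐ C (J₁ U M)) ≫
      ptMap (IsScalarTower.toAlgHom C (D₁ U) (R₁ U M)) ≫ u₀ U = 1 := by
    rw [u₀, ptMap_toPt]
    refine inf_of_toPt _ _ fun d => ?_
    change Ideal.Quotient.mk (J₁ U M) (algebraMap (D₁ U) (R₁ U M) (mk₁ U d)) =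
      Ideal.Quotient.mk (J₁ U M) (algebraMap C (R₁ U M) (U.ε d))
    rw [Ideal.Quotient.eq]
    have h1 : algebraMap C (R₁ U M) (U.ε d) =
        algebraMap (D₁ U) (R₁ U M) (mk₁ U (algebraMap C U.D (U.ε d))) := rfl
    rw [h1, ← map_sub, ← map_sub]
    refine Ideal.mem_map_of_mem _ (Ideal.mem_map_of_mem _ ?_)
    rw [RingHom.mem_ker, map_sub]
    change U.ε d - U.ε (algebraMap C U.D (U.ε d)) = 0
    rw [AlgHom.commutes]
    simp
  rw [τ, MonObj.comp_mul, MonObj.comp_mul, h, _root_.mul_one, ← MonObj.comp_mul, mul_inv_cancel, MonObj.comp_one]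

omit [IsMonHom i] in
theorem exists_θ : ∃ θ : U.D →ₐ[C] R₁ U M, τ U i = toPt U θ ∧ ∀ d, θ d - algebraMap C _ (U.ε d) ∈ J₁ U M :=
  exists_of_inf (U := U) (J₁ U M) (J₁_mul U) _ (τ_inf U i)

omit [IsMonHom i] in
/-- **Conjugation formula.** -/
theorem conj_formula {θ : U.D →ₐ[C] R₁ U M} (hθ : τ U i = toPt U θ) {E : Type u} [CommRing E] [Algebra C E]
    (ζ : D₁ U →ₐ[C] E) (χ : Multiplicative M →* E) :
    (charPt χ ≫ i) * (ptMap ζ ≫ u₀ U) * (charPt χ ≫ i)⁻¹ = toPt U ((phi ζ χ).comp θ) := by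
  rw [← ptMap_toPt, ← hθ, τ, MonObj.comp_mul, MonObj.comp_mul, GrpObj.comp_inv, ← Category.assoc, ptMap_charPt,
    ← Category.assoc (ptMap (phi ζ χ)), ptMap_comp, phi_comp_algebraMap]
  congr 6
  · ext m
    exact (phi_of ζ χ _).symm
  · ext m
    exact (phi_of ζ χ _).symm

/-- The identities of a coaction for `θ`. -/
theorem coaction {θ : U.D →ₐ[C] R₁ U M} (hθ : τ U i = toPt U θ)
    (hθ' : ∀ d, θ d - algebraMap C _ (U.ε d) ∈ J₁ U M) :
    (∀ d, phi (AlgHom.id C (D₁ U)) 1 (θ d) = mk₁ U d) ∧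
    ∀ d m, desc U (J₁ U M) (J₁_mul U) θ hθ' ((θ d).coeff m) = MonoidAlgebra.single m ((θ d).coeff m) := by
  constructor
  · intro d
    have h := conj_formula U i hθ (AlgHom.id C (D₁ U)) (1 : Multiplicative M →* D₁ U)
    rw [charPt_one, MonObj.one_comp, ptMap_id, Category.id_comp, _root_.one_mul, inv_one, _root_.mul_one] at h
    exact congr($(toPt_injective U h) d).symm
  · intro d m
    let θb := desc U (J₁ U M) (J₁_mul U) θ hθ'
    let inn := IsScalarTower.toAlgHom C (R₁ U M) (MonoidAlgebra (R₁ U M) (Multiplicative M))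
    let inc := IsScalarTower.toAlgHom C (D₁ U) (R₁ U M)
    let χa : Multiplicative M →* MonoidAlgebra (R₁ U M) (Multiplicative M) := MonoidAlgebra.of _ _
    let χb : Multiplicative M →* MonoidAlgebra (R₁ U M) (Multiplicative M) :=
      (inn : R₁ U M →* MonoidAlgebra (R₁ U M) (Multiplicative M)).comp (MonoidAlgebra.of (D₁ U) (Multiplicative M))
    have h1 := conj_formula U i hθ (E := MonoidAlgebra (R₁ U M) (Multiplicative M)) (inn.comp inc) (χa * χb)
    have h2 := conj_formula U i hθ (E := MonoidAlgebra (R₁ U M) (Multiplicative M)) (inn.comp θb) χa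
    have h3 : ptMap (inn.comp θb) ≫ u₀ U = (charPt χb ≫ i) * (ptMap (inn.comp inc) ≫ u₀ U) * (charPt χb ≫ i)⁻¹ := by
      rw [← ptMap_comp, Category.assoc, ptMap_desc, ← hθ, τ, MonObj.comp_mul, MonObj.comp_mul, GrpObj.comp_inv,
        ← Category.assoc, ptMap_charPt, ← Category.assoc (ptMap inn), ptMap_comp]
    have h4 : phi (inn.comp inc) (χa * χb) = phi (inn.comp inc) (χa * χb) := rfl
    have h5 : (phi (inn.comp inc) (χa * χb)).comp θ = (phi (inn.comp θb) χa).comp θ := by
      apply toPt_injective U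
      rw [← h1, ← h2, h3, charPt_mul, MonObj.mul_comp]
      group
    have h6 := congrArg (fun x => x.coeff m) (congr($h5 d))
    change (phi (inn.comp inc) (χa * χb) (θ d)).coeff m = (phi (inn.comp θb) χa (θ d)).coeff m at h6
    rw [show (phi (inn.comp inc) (χa * χb) (θ d)).coeff m = MonoidAlgebra.single m ((θ d).coeff m) from
      coeff_phi_mul (θ d) m, show (phi (inn.comp θb) χa (θ d)).coeff m = θb ((θ d).coeff m) from
      coeff_phi_of θb (θ d) m] at h6
    exact h6.symm

/-- The finite set of weights. -/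
theorem exists_weights [Algebra.FiniteType C U.D] : ∃ F : Finset (Multiplicative M), ∀ (n : ℕ),
    (∀ m ∈ F, m ≠ 1 → ∀ m', m' ^ n ≠ m) →
    ∀ (B : Type u) [CommRing B] [Algebra C B] (I : Ideal B), I * I = ⊥ → ∀ (v : pt C B ⟶ G),
      ptMap (Ideal.Quotient.mkₐ C I) ≫ v = 1 →
      (∀ (E : Type u) [CommRing E] [Algebra C E] (f : B →ₐ[C] E) (χ : Multiplicative M →* E), χ ^ n = 1 →
        (ptMap f ≫ v) * (charPt χ ≫ i) = (charPt χ ≫ i) * (ptMap f ≫ v)) →
      ∀ (E : Type u) [CommRing E] [Algebra C E] (f : B →ₐ[C] E) (χ : Multiplicative M →* E),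
        (ptMap f ≫ v) * (charPt χ ≫ i) = (charPt χ ≫ i) * (ptMap f ≫ v) := by
  obtain ⟨θ, hθ, hθ'⟩ := exists_θ U i
  obtain ⟨hcounit, hcoact⟩ := coaction U i hθ hθ'
  obtain ⟨F, hF⟩ := exists_finset θ U.ε (J₁ U M) (J₁_mul U) hθ'
  refine ⟨F, fun n hn B _ _ I hI v hv htors E _ _ f χ => ?_⟩
  obtain ⟨ξ₀, rfl, hξ₀⟩ := exists_of_inf (U := U) I hI v hv
  let ξ := desc U I hI ξ₀ hξ₀
  have hξ : toPt U ξ₀ = ptMap ξ ≫ u₀ U := (ptMap_desc U I hI ξ₀ hξ₀).symm
  -- commuting with `χ` in terms of `θ`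
  have key : ∀ (E : Type u) [CommRing E] [Algebra C E] (f : B →ₐ[C] E) (χ : Multiplicative M →* E),
      (ptMap f ≫ toPt U ξ₀) * (charPt χ ≫ i) = (charPt χ ≫ i) * (ptMap f ≫ toPt U ξ₀) ↔
        ∀ d, phi (f.comp ξ) χ (θ d) = f (ξ (mk₁ U d)) := by
    intro E _ _ f χ
    have h1 := conj_formula U i hθ (f.comp ξ) χ
    rw [← ptMap_comp, Category.assoc, ← hξ] at h1
    have h2 : ptMap f ≫ toPt U ξ₀ = toPt U ((f.comp ξ).comp (mk₁ U)) := ptMap_toPt U f ξ₀
    constructor
    · intro h d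
      rw [← h, mul_inv_cancel_right, h2] at h1
      exact congr($(toPt_injective U h1) d).symm
    · intro h
      have h3 : (phi (f.comp ξ) χ).comp θ = (f.comp ξ).comp (mk₁ U) := AlgHom.ext h
      rw [h3, ← h2] at h1
      rw [← h1, inv_mul_cancel_right, h1]
  rw [key]
  intro d
  let p := QuotientGroup.mk' (powMonoidHom n : Multiplicative M →* Multiplicative M).range
  refine fixed_of_torsion (mk := mk₁ U) (mk₁_surjective U)
    (θ := θ) (θb := desc U (J₁ U M) (J₁_mul U) θ hθ') (fun d => rfl) hcounit hcoact ξ p ?_ ?_ f χ d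
  · let χn : Multiplicative M →* MonoidAlgebra B (Multiplicative M ⧸ (powMonoidHom n : Multiplicative M →* Multiplicative M).range) :=
      (MonoidAlgebra.of B _).comp p
    refine (key _ _ χn).1 (htors _ _ χn ?_)
    refine MonoidHom.ext fun m => ?_
    change (MonoidAlgebra.of B _ (p m)) ^ n = 1
    rw [← map_pow, ← map_pow]
    have : p (m ^ n) = 1 := (QuotientGroup.eq_one_iff _).2 ⟨m, rfl⟩
    rw [this, map_one]
  · intro m hm hp e
    by_cases hmF : m ∈ F
    · obtain ⟨m', hm'⟩ := (QuotientGroup.eq_one_iff m).1 hp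
      exact absurd hm' (hn m hmF hm m')
    · exact hF m hm hmF e

end Groth.Agent.Sga3.H797.TorsInf
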