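import Groth.Agent.Sga3.H797.TorsInf

/-!
# Points commuting with the torsion of a split torus, infinitesimal rigidity over a general base

`G` an `S`-group locally of finite type, `i : D_S(M) ⟶ G` a homomorphism. Locally on `S` there is a finite set `F` of
characters such that for `n` with no nontrivial element of `F` an `n`-th power, an infinitesimal point of `G`
commuting with the `n`-torsion of `D_S(M)` commutes with `D_S(M)`.
-/

set_option autoImplicit false
universe u
open CategoryTheory MonoidalCategory CartesianMonoidalCategory MonObj GrpObj AlgebraicGeometry Limits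

namespace Groth.Agent.Sga3.H797.TorsNhd

open Groth.Agent.Sga3B.DSPts Groth.Agent.Sga3B.InfConj Groth.Agent.Sga3B.InfConjFam InfChart TorsInf

variable {S : Scheme.{u}}

lemma finiteType_uChart {C : Type u} [CommRing C] {G : Over (Spec (CommRingCat.of C))} [GrpObj G]
    [LocallyOfFiniteType G.hom] (U : UChart G) : Algebra.FiniteType C U.D := by
  have h : LocallyOfFiniteType (Spec.map (CommRingCat.ofHom (algebraMap C U.D))) := by
    rw [← U.comp]
    infer_instance
  rw [HasRingHomProperty.Spec_iff (P := @LocallyOfFiniteType)] at h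
  exact RingHom.finiteType_algebraMap.mp h

/-- The unit section of a base change. -/
lemma unit_bc {S' : Scheme.{u}} (q : S' ⟶ S) (G : Over S) [GrpObj G] :
    (η[Red.bc q G] : 𝟙_ _ ⟶ Red.bc q G).left ≫ pullback.fst G.hom q =
      q ≫ (η[G] : 𝟙_ (Over S) ⟶ G).left := by
  have h1 : (bcEquiv q (𝟙_ _) G).symm η[Red.bc q G] = 1 := by
    rw [one_eq_one, map_one]
  have h2 := bcEquiv_symm_left q (𝟙_ _) G η[Red.bc q G]
  rw [← h2]
  have h3 : (1 : (Over.map q).obj (𝟙_ (Over S')) ⟶ G) = toUnit _ ≫ η[G] := rfl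
  have h4 : (bcEquiv q (𝟙_ _) G).symm η[Red.bc q G] = toUnit _ ≫ η[G] := h1.trans h3
  rw [h4, Over.comp_left]
  congr 1

/-- Small affine open neighbourhoods over which the unit section has an affine neighbourhood. -/
theorem exists_hasAffineUnitNhd (G : Over S) [GrpObj G] (s : S) :
    ∃ (C : Type u) (_ : CommRing C) (c : Spec (CommRingCat.of C) ⟶ S), IsOpenImmersion c ∧ s ∈ Set.range c ∧
      HasAffineUnitNhd (Red.bc c G) := by
  let e : S ⟶ G.left := η[G].left
  let π : G.left ⟶ S := G.hom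
  have he : ∀ x, π (e x) = x := fun x => by
    rw [← Scheme.Hom.comp_apply, show e ≫ π = 𝟙 S from Over.w η[G]]
    rfl
  obtain ⟨_, ⟨U₀, hU₀, rfl⟩, hs, -⟩ := S.isBasis_affineOpens.exists_subset_of_mem_open (Set.mem_univ s) isOpen_univ
  have hes : e s ∈ π ⁻¹ᵁ U₀ := by
    change π (e s) ∈ U₀
    rw [he]
    exact hs
  obtain ⟨_, ⟨W, hW, rfl⟩, hW1, hW2⟩ := G.left.isBasis_affineOpens.exists_subset_of_mem_open hes
    (π ⁻¹ᵁ U₀).isOpen
  obtain ⟨f, hf1, hf2⟩ := hU₀.exists_basicOpen_le (V := e ⁻¹ᵁ W ⊓ U₀) ⟨s, ⟨hW1, hs⟩⟩ hs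
  have hV := hU₀.basicOpen f
  let V := S.basicOpen f
  have hVW : G.left.basicOpen (π.appLE U₀ W hW2 f) = W ⊓ π ⁻¹ᵁ V :=
    Scheme.basicOpen_appLE π W U₀ hW2 f
  have hW' := hW.basicOpen (π.appLE U₀ W hW2 f)
  rw [hVW] at hW'
  refine ⟨Γ(S, V), inferInstance, hV.fromSpec, hV.isOpenImmersion_fromSpec, ?_, ?_⟩
  · rw [hV.range_fromSpec]; exact hf2
  · have := hV.isOpenImmersion_fromSpec
    have := hW'.isOpenImmersion_fromSpec
    have hr : Set.range hW'.fromSpec ⊆ Set.range (pullback.fst G.hom hV.fromSpec) := by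
      rw [hW'.range_fromSpec, Scheme.Pullback.range_fst, hV.range_fromSpec]
      exact fun x hx => hx.2
    refine ⟨Γ(G.left, W ⊓ π ⁻¹ᵁ V), IsOpenImmersion.lift (pullback.fst G.hom hV.fromSpec) hW'.fromSpec hr, ?_, ?_⟩
    · have h1 : IsOpenImmersion (IsOpenImmersion.lift (pullback.fst G.hom hV.fromSpec) hW'.fromSpec hr ≫
          pullback.fst G.hom hV.fromSpec) := by
        rw [IsOpenImmersion.lift_fac]; infer_instance
      exact IsOpenImmersion.of_comp _ (pullback.fst G.hom hV.fromSpec)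
    · rintro _ ⟨y, rfl⟩
      have h1 : (η[Red.bc hV.fromSpec G] : 𝟙_ _ ⟶ Red.bc hV.fromSpec G).left ≫ pullback.fst G.hom hV.fromSpec =
          hV.fromSpec ≫ e := unit_bc _ G
      have h2 : e (hV.fromSpec y) ∈ Set.range hW'.fromSpec := by
        rw [hW'.range_fromSpec]
        have h3 : hV.fromSpec y ∈ V := by
          have : hV.fromSpec y ∈ Set.range hV.fromSpec := ⟨y, rfl⟩
          rwa [hV.range_fromSpec] at this
        refine ⟨(hf1 h3).1, ?_⟩
        change π (e (hV.fromSpec y)) ∈ V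
        rw [he]
        exact h3
      obtain ⟨z, hz⟩ := h2
      refine ⟨z, ?_⟩
      apply (pullback.fst G.hom hV.fromSpec).isOpenEmbedding.injective
      rw [← Scheme.Hom.comp_apply, IsOpenImmersion.lift_fac, hz]
      exact (congr($(h1) y)).symm

section joint

variable {C : Type u} [CommRing C] {B : Type u} [CommRing B] [Algebra C B] {M : Type} [AddCommGroup M]

/-- a pair of a `B`-valued point and of a point of `D(M)` comes from the universal one. -/
lemma exists_joint {X : Over (Spec (CommRingCat.of C))} (y : X ⟶ pt C B)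
    (q : X ⟶ Red.DS (Spec (CommRingCat.of C)) M) :
    ∃ h : X ⟶ pt C (MonoidAlgebra B (Multiplicative M)),
      h ≫ ptMap (IsScalarTower.toAlgHom C B (MonoidAlgebra B (Multiplicative M))) = y ∧
      h ≫ charPt (MonoidAlgebra.of B (Multiplicative M)) = q := by
  let X' : Over (Spec (CommRingCat.of B)) := Over.mk y.left
  let q' : X' ⟶ Red.DS (Spec (CommRingCat.of B)) M := dsEquiv X' M (dsChar q : Multiplicative M →* Γ(X.left, ⊤))
  obtain ⟨h', hh'⟩ := exists_eq_comp_charPt q'
  have hw : h'.left ≫ Spec.map (CommRingCat.ofHom (algebraMap B (MonoidAlgebra B (Multiplicative M)))) = y.left :=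
    Over.w h'
  refine ⟨Over.homMk h'.left ?_, ?_, ?_⟩
  · have h1 : Spec.map (CommRingCat.ofHom (algebraMap C (MonoidAlgebra B (Multiplicative M)))) =
        Spec.map (CommRingCat.ofHom (algebraMap B (MonoidAlgebra B (Multiplicative M)))) ≫
          Spec.map (CommRingCat.ofHom (algebraMap C B)) := by
      rw [← Spec.map_comp, ← CommRingCat.ofHom_comp, ← IsScalarTower.algebraMap_eq]
    change h'.left ≫ Spec.map (CommRingCat.ofHom (algebraMap C (MonoidAlgebra B (Multiplicative M)))) = _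
    rw [h1, reassoc_of% hw]
    exact Over.w y
  · ext1
    exact hw
  · apply (dsEquiv X M).symm.injective
    change dsChar _ = dsChar q
    rw [dsChar_comp]
    have h2 : dsChar q' = dsChar q := dsChar_dsEquiv _
    have h3 : dsChar (univPt B M) = (gPt B (MonoidAlgebra B (Multiplicative M))).toMonoidHom.comp
        (MonoidAlgebra.of B (Multiplicative M)) := dsChar_dsEquiv _
    rw [← h2, hh', dsChar_comp, h3]
    congr 1
    exact dsChar_dsEquiv _

end joint

/-- Infinitesimal points over `x` commuting with the `n`-torsion of `T` commute with `T`. -/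
def RigidPt {T G : Over S} [GrpObj T] [GrpObj G] (i : T ⟶ G) (n : ℕ) {B : Type u} [CommRing B] (I : Ideal B)
    (x : Spec (CommRingCat.of B) ⟶ S) : Prop :=
  ∀ v : Over.mk x ⟶ G, redMap x I ≫ v = 1 →
    (∀ (X : Over S) (y : X ⟶ Over.mk x) (t : X ⟶ T), t ^ n = 1 → (y ≫ v) * (t ≫ i) = (t ≫ i) * (y ≫ v)) →
    ∀ (X : Over S) (y : X ⟶ Over.mk x) (t : X ⟶ T), (y ≫ v) * (t ≫ i) = (t ≫ i) * (y ≫ v)

section transfer

variable {C : Type u} [CommRing C] (c : Spec (CommRingCat.of C) ⟶ S) {M : Type} [AddCommGroup M]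
  {G : Over S} [GrpObj G] (i : Red.DS S M ⟶ G)

/-- the homomorphism over the affine open -/
noncomputable def resHom : Red.DS (Spec (CommRingCat.of C)) M ⟶ Red.bc c G := famHom c G (fst _ _ ≫ i)

lemma comp_resHom {T : Over (Spec (CommRingCat.of C))} (q : T ⟶ Red.DS (Spec (CommRingCat.of C)) M) :
    q ≫ resHom c i = bcEquiv c T G (tr c q ≫ i) := by
  rw [resHom, comp_famHom, lift_fst_assoc]

lemma isMonHom_resHom [IsMonHom i] : IsMonHom (resHom c i) := by
  refine isMonHom_famHom c G ?_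
  intro T d₁ d₂ t
  rw [lift_fst_assoc, lift_fst_assoc, lift_fst_assoc, MonObj.mul_comp]

lemma charPt_pow {E : Type u} [CommRing E] [Algebra C E] (χ : Multiplicative M →* E) (n : ℕ) :
    charPt (C := C) (χ ^ n) = (charPt χ) ^ n := by
  induction n with
  | zero => rw [pow_zero, pow_zero, charPt_one]
  | succ n hn => rw [pow_succ, pow_succ, charPt_mul, hn]

lemma tr_one {T : Over (Spec (CommRingCat.of C))} : tr c (1 : T ⟶ Red.DS (Spec (CommRingCat.of C)) M) = 1 := by
  have h : dsChar (1 : T ⟶ Red.DS (Spec (CommRingCat.of C)) M) = 1 := map_one (dsEquiv T M).symm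
  unfold tr
  rw [h]
  exact map_one (dsEquiv ((Over.map c).obj T) M)

lemma tr_pow {T : Over (Spec (CommRingCat.of C))} (q : T ⟶ Red.DS (Spec (CommRingCat.of C)) M) (n : ℕ) :
    tr c (q ^ n) = (tr c q) ^ n := by
  induction n with
  | zero => rw [pow_zero, pow_zero, tr_one]
  | succ n hn => rw [pow_succ, pow_succ, tr_mul, hn]

/-- Transfer of infinitesimal rigidity from an affine open of the base. -/
theorem rigidPt_of_affine {n : ℕ} {B : Type u} [CommRing B] [Algebra C B] (I : Ideal B)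
    (H : ∀ (v : pt C B ⟶ Red.bc c G),
      ptMap (Ideal.Quotient.mkₐ C I) ≫ v = 1 →
      (∀ (E : Type u) [CommRing E] [Algebra C E] (f : B →ₐ[C] E) (χ : Multiplicative M →* E), χ ^ n = 1 →
        (ptMap f ≫ v) * (charPt χ ≫ resHom c i) = (charPt χ ≫ resHom c i) * (ptMap f ≫ v)) →
      ∀ (E : Type u) [CommRing E] [Algebra C E] (f : B →ₐ[C] E) (χ : Multiplicative M →* E),
        (ptMap f ≫ v) * (charPt χ ≫ resHom c i) = (charPt χ ≫ resHom c i) * (ptMap f ≫ v)) :
    RigidPt i n I (Spec.map (CommRingCat.ofHom (algebraMap C B)) ≫ c) := by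
  intro v hv htors X y t
  let v' : pt C B ⟶ Red.bc c G := bcEquiv c (pt C B) G v
  have hv' : ptMap (Ideal.Quotient.mkₐ C I) ≫ v' = 1 := by
    rw [bcEquiv_naturality]
    let e : (Over.map c).obj (pt C (B ⧸ I)) ⟶ Over.mk (Spec.map (CommRingCat.ofHom (Ideal.Quotient.mk I)) ≫
        Spec.map (CommRingCat.ofHom (algebraMap C B)) ≫ c) := Over.homMk (𝟙 _) (by
      change 𝟙 _ ≫ Spec.map (CommRingCat.ofHom (Ideal.Quotient.mk I)) ≫
        Spec.map (CommRingCat.ofHom (algebraMap C B)) ≫ c =
          Spec.map (CommRingCat.ofHom (algebraMap C (B ⧸ I))) ≫ c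
      rw [Category.id_comp, ← Category.assoc, ← Spec.map_comp, ← CommRingCat.ofHom_comp])
    have he : (Over.map c).map (ptMap (Ideal.Quotient.mkₐ C I)) = e ≫ redMap _ I :=
      Over.OverMorphism.ext (Category.id_comp _).symm
    rw [he, Category.assoc, hv, MonObj.comp_one, map_one]
  have key := H v' hv' (by
    intro E _ _ f χ hχ
    rw [comp_resHom, bcEquiv_naturality, ← map_mul, ← map_mul]
    congr 1
    refine htors _ ((Over.map c).map (ptMap f)) (tr c (charPt χ)) ?_
    rw [← tr_pow, ← charPt_pow, hχ, charPt_one, tr_one])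
  let X' : Over (Spec (CommRingCat.of C)) := Over.mk (y.left ≫ Spec.map (CommRingCat.ofHom (algebraMap C B)))
  let y' : X' ⟶ pt C B := Over.homMk y.left
  let q' : X' ⟶ Red.DS (Spec (CommRingCat.of C)) M := dsEquiv X' M (dsChar t : Multiplicative M →* Γ(X.left, ⊤))
  obtain ⟨h, hy, hq⟩ := exists_joint (M := M) y' q'
  have h1 := key _ (IsScalarTower.toAlgHom C B (MonoidAlgebra B (Multiplicative M)))
    (MonoidAlgebra.of B (Multiplicative M))
  have h2 := congrArg (fun k => h ≫ k) h1
  simp only [MonObj.comp_mul, ← Category.assoc, hy, hq] at h2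
  have h3 := congrArg (bcEquiv c X' G).symm h2
  rw [comp_resHom, bcEquiv_naturality] at h3
  simp only [map_mul, MulEquiv.symm_apply_apply] at h3
  let e : X ⟶ (Over.map c).obj X' := Over.homMk (𝟙 _) (by
    change 𝟙 _ ≫ (y.left ≫ Spec.map (CommRingCat.ofHom (algebraMap C B))) ≫ c = X.hom
    rw [Category.id_comp, Category.assoc]
    exact Over.w y)
  have h4 := congrArg (fun k => e ≫ k) h3
  have h5 : e ≫ (Over.map c).map y' = y := by
    ext1
    exact Category.id_comp _
  have h6 : e ≫ tr c q' = t := by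
    unfold tr
    rw [dsEquiv_naturality, dsChar_dsEquiv]
    refine Eq.trans ?_ (dsEquiv_dsChar t)
    congr 1
  simp only [MonObj.comp_mul, ← Category.assoc, h5, h6] at h4
  exact h4

end transfer

/-- **Infinitesimal rigidity of the torsion, locally on the base.** -/
theorem exists_finset_nhd {M : Type} [AddCommGroup M] {G : Over S} [GrpObj G] [LocallyOfFiniteType G.hom]
    (i : Red.DS S M ⟶ G) [IsMonHom i] (s : S) :
    ∃ V : S.Opens, s ∈ V ∧ ∃ F : Finset (Multiplicative M), ∀ n : ℕ,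
      (∀ m ∈ F, m ≠ 1 → ∀ m', m' ^ n ≠ m) → ∀ (B : Type u) [CommRing B] (I : Ideal B), I * I = ⊥ →
        ∀ (x : Spec (CommRingCat.of B) ⟶ S), Set.range x ⊆ V → RigidPt i n I x := by
  obtain ⟨C, _, c, hc, hs, hU⟩ := exists_hasAffineUnitNhd G s
  obtain ⟨U⟩ := exists_uChart _ hU
  have : LocallyOfFiniteType (Red.bc c G).hom := inferInstanceAs (LocallyOfFiniteType (pullback.snd _ _))
  have := finiteType_uChart U
  have := isMonHom_resHom c i
  obtain ⟨F, hF⟩ := exists_weights U (resHom c i)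
  refine ⟨c.opensRange, hs, F, fun n hn B _ I hI x hx => ?_⟩
  obtain ⟨β, rfl⟩ : ∃ β : Spec (CommRingCat.of B) ⟶ Spec (CommRingCat.of C), β ≫ c = x :=
    ⟨IsOpenImmersion.lift c x hx, IsOpenImmersion.lift_fac _ _ _⟩
  obtain ⟨φ, rfl⟩ := Spec.map_surjective β
  let _ : Algebra C B := φ.hom.toAlgebra
  exact rigidPt_of_affine c i I (hF n hn B I hI)

end Groth.Agent.Sga3.H797.TorsNhd
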